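import Cfsg.Agent.Lib.Known.G2Square.Cover

/-!
The case analysis on the Levi component of a cell.
-/

set_option autoImplicit false

namespace CfsgLib.Known.G2Square

open Cfsg.Lie CfsgLib.Chev

variable {F : Type*} [Field F]

@[simp] theorem dtm_up (t : F) : dtm (up t) = 1 := by simp [dtm, up]

@[simp] theorem dtm_low (t : F) : dtm (low t) = 1 := by simp [dtm, low]

theorem mul_up_entries (A : GL (Fin 2) F) (c : F) :
    (A * up c) 0 0 = A 0 0 ∧ (A * up c) 0 1 = A 0 0 * c + A 0 1 ∧ (A * up c) 1 0 = A 1 0 ∧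
      (A * up c) 1 1 = A 1 0 * c + A 1 1 := by
  simp [up, Matrix.mul_apply, Fin.sum_univ_two]

theorem mul_low_entries (A : GL (Fin 2) F) (c : F) :
    (A * low c) 0 0 = A 0 0 + A 0 1 * c ∧ (A * low c) 0 1 = A 0 1 ∧
      (A * low c) 1 0 = A 1 0 + A 1 1 * c ∧ (A * low c) 1 1 = A 1 1 := by
  simp [low, Matrix.mul_apply, Fin.sum_univ_two]

theorem low_mul_entries (A : GL (Fin 2) F) (c : F) :
    (low c * A) 0 0 = A 0 0 ∧ (low c * A) 0 1 = A 0 1 ∧
      (low c * A) 1 0 = c * A 0 0 + A 1 0 ∧ (low c * A) 1 1 = c * A 0 1 + A 1 1 := by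
  simp [low, Matrix.mul_apply, Fin.sum_univ_two]

theorem up_mul_entries (A : GL (Fin 2) F) (c : F) :
    (up c * A) 0 0 = A 0 0 + c * A 1 0 ∧ (up c * A) 0 1 = A 0 1 + c * A 1 1 ∧
      (up c * A) 1 0 = A 1 0 ∧ (up c * A) 1 1 = A 1 1 := by
  simp [up, Matrix.mul_apply, Fin.sum_univ_two]

variable [Finite F] (S : SData F)

theorem SData.good_of {A : GL (Fin 2) F} (hd : dtm A = S.d * S.d)
    (ht : A 0 0 + A 1 1 ≠ 2 * S.d) (hns : NS A) : S.Good A := ⟨hd, .inl ⟨ht, hns⟩⟩

theorem SData.good_scalar {A : GL (Fin 2) F} (hd : dtm A = S.d * S.d) (h1 : A 0 0 = S.d)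
    (h2 : A 1 1 = S.d) (h3 : A 0 1 = 0) (h4 : A 1 0 = 0) : S.Good A :=
  ⟨hd, .inr ⟨h1, h2, h3, h4⟩⟩

theorem SData.diag_eq {a b : F} (hab : a * b = S.d * S.d) (h : a + b = 2 * S.d) :
    a = S.d ∧ b = S.d := by
  have h1 : a = S.d := sub_eq_zero.1 (mul_self_eq_zero.1 (by linear_combination -hab + a * h))
  exact ⟨h1, by linear_combination h - h1⟩

theorem two_d_succ_ne (d : F) : 2 * d + 1 ≠ 2 * d := fun e =>
  one_ne_zero (add_eq_left.1 e)

/-- The cells of a root whose reflection moves `x₆` into `Qp`. -/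
theorem SData.cl_single_up {N : GL chevG2.Idx F} (hw : ∀ c, N⁻¹ * L (up c) * N ∈ Qp F)
    (hgood : ∀ B, S.Good B → S.Cl N B) {A : GL (Fin 2) F} (hA : dtm A = S.d * S.d) :
    S.Cl N A := by
  have main : ∀ c, S.Good (A * up c) → S.Cl N A := fun c h => by
    refine S.step_qp (Z := up (-c)) (hw _) ?_
    rw [up_inv, neg_neg]
    exact hgood _ h
  have hdet : ∀ c, dtm (A * up c) = S.d * S.d := fun c => by rw [dtm_mul, hA, dtm_up, mul_one]
  by_cases hg : A 1 0 = 0
  · have had : A 0 0 * A 1 1 = S.d * S.d := by rw [← hA, dtm, hg, mul_zero, sub_zero]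
    have ha : A 0 0 ≠ 0 := fun e => dtm_ne A (by rw [dtm, e, hg]; ring)
    by_cases ht : A 0 0 + A 1 1 = 2 * S.d
    · obtain ⟨h1, h2⟩ := S.diag_eq had ht
      refine main (-A 0 1 / A 0 0) ?_
      obtain ⟨e1, e2, e3, e4⟩ := mul_up_entries A (-A 0 1 / A 0 0)
      refine S.good_scalar (hdet _) (e1.trans h1) ?_ ?_ (e3.trans hg)
      · rw [e4, hg, zero_mul, zero_add, h2]
      · rw [e2, mul_div_cancel₀ _ ha, neg_add_cancel]
    · refine main ((1 - A 0 1) / A 0 0) ?_
      obtain ⟨e1, e2, e3, e4⟩ := mul_up_entries A ((1 - A 0 1) / A 0 0)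
      refine S.good_of (hdet _) ?_ (.inr (.inl ?_))
      · rw [e1, e4, hg, zero_mul, zero_add]; exact ht
      · rw [e2, mul_div_cancel₀ _ ha, sub_add_cancel]; exact one_ne_zero
  · refine main ((2 * S.d + 1 - A 0 0 - A 1 1) / A 1 0) ?_
    obtain ⟨e1, e2, e3, e4⟩ := mul_up_entries A ((2 * S.d + 1 - A 0 0 - A 1 1) / A 1 0)
    refine S.good_of (hdet _) ?_ (.inl (by rw [e3]; exact hg))
    rw [e1, e4, mul_div_cancel₀ _ hg]
    convert two_d_succ_ne S.d using 1
    ring

/-- The cells of a root whose reflection moves `x₅` into `Qp`. -/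
theorem SData.cl_single_low {N : GL chevG2.Idx F} (hw : ∀ c, N⁻¹ * L (low c) * N ∈ Qp F)
    (hgood : ∀ B, S.Good B → S.Cl N B) {A : GL (Fin 2) F} (hA : dtm A = S.d * S.d) :
    S.Cl N A := by
  have main : ∀ c, S.Good (A * low c) → S.Cl N A := fun c h => by
    refine S.step_qp (Z := low (-c)) (hw _) ?_
    rw [low_inv, neg_neg]
    exact hgood _ h
  have hdet : ∀ c, dtm (A * low c) = S.d * S.d := fun c => by rw [dtm_mul, hA, dtm_low, mul_one]
  by_cases hg : A 0 1 = 0
  · have had : A 0 0 * A 1 1 = S.d * S.d := by rw [← hA, dtm, hg, zero_mul, sub_zero]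
    have ha : A 1 1 ≠ 0 := fun e => dtm_ne A (by rw [dtm, e, hg]; ring)
    by_cases ht : A 0 0 + A 1 1 = 2 * S.d
    · obtain ⟨h1, h2⟩ := S.diag_eq had ht
      refine main (-A 1 0 / A 1 1) ?_
      obtain ⟨e1, e2, e3, e4⟩ := mul_low_entries A (-A 1 0 / A 1 1)
      refine S.good_scalar (hdet _) ?_ (e4.trans h2) (e2.trans hg) ?_
      · rw [e1, hg, zero_mul, add_zero, h1]
      · rw [e3, mul_div_cancel₀ _ ha, add_neg_cancel]
    · refine main ((1 - A 1 0) / A 1 1) ?_
      obtain ⟨e1, e2, e3, e4⟩ := mul_low_entries A ((1 - A 1 0) / A 1 1)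
      refine S.good_of (hdet _) ?_ (.inl ?_)
      · rw [e1, e4, hg, zero_mul, add_zero]; exact ht
      · rw [e3, mul_div_cancel₀ _ ha, add_sub_cancel]; exact one_ne_zero
  · refine main ((2 * S.d + 1 - A 0 0 - A 1 1) / A 0 1) ?_
    obtain ⟨e1, e2, e3, e4⟩ := mul_low_entries A ((2 * S.d + 1 - A 0 0 - A 1 1) / A 0 1)
    refine S.good_of (hdet _) ?_ (.inr (.inl (by rw [e2]; exact hg)))
    rw [e1, e4, mul_div_cancel₀ _ hg]
    convert two_d_succ_ne S.d using 1
    ring

/-- An element other than `0` and a given one. -/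
theorem exists_ne_ne (h3 : 3 ≤ Nat.card F) (x : F) : ∃ c : F, c ≠ 0 ∧ c ≠ x := by
  classical
  haveI := Fintype.ofFinite F
  by_contra h
  push Not at h
  have : (Finset.univ : Finset F) ⊆ {0, x} := fun c _ => by
    by_cases hc : c = 0
    · simp [hc]
    · simp [h c hc]
  have := (Finset.card_le_card this).trans Finset.card_le_two
  rw [Finset.card_univ, ← Nat.card_eq_fintype_card] at this
  omega

/-- The cells of the pair of orthogonal roots. -/
theorem SData.cl_pair (h3 : 3 ≤ Nat.card F) {N : GL chevG2.Idx F} {k k' : F} (hkk : k' * k = 1)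
    (h6 : ∀ c, N⁻¹ * L (up c) * N = L (low (k * c)))
    (h5 : ∀ c, N⁻¹ * L (low c) * N = L (up (k' * c)))
    (hgood : ∀ B, S.Good B → S.Cl N B)
    (hfall : (2 : F) = 0 → ∀ B : GL (Fin 2) F, B 0 0 = 0 → B 1 1 = 0 → dtm B = S.d * S.d →
      S.Cl N B)
    {A : GL (Fin 2) F} (hA : dtm A = S.d * S.d) : S.Cl N A := by
  have hk : k ≠ 0 := fun e => one_ne_zero (by rw [← hkk, e, mul_zero] : (1 : F) = 0)
  have hk' : k' ≠ 0 := fun e => one_ne_zero (by rw [← hkk, e, zero_mul] : (1 : F) = 0)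
  -- the two moves
  have mU : ∀ (B : GL (Fin 2) F) (c : F), dtm B = S.d * S.d →
      (∀ C : GL (Fin 2) F, dtm C = S.d * S.d → C 0 0 = B 0 0 → C 0 1 = B 0 1 - B 0 0 * c →
        C 1 0 = k * c * B 0 0 + B 1 0 →
        C 1 1 = k * c * (B 0 1 - B 0 0 * c) + B 1 1 - B 1 0 * c → S.Cl N C) →
      S.Cl N B := by
    intro B c hB h
    refine S.step_L (h6 c) (h _ ?_ ?_ ?_ ?_ ?_)
    · rw [up_inv, dtm_mul, dtm_mul, dtm_low, dtm_up, hB, one_mul, mul_one]
    all_goals rw [up_inv]
    all_goals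
      simp [up, low, Matrix.mul_apply, Matrix.vecMul, dotProduct, Fin.sum_univ_two]
    all_goals ring
  have mL : ∀ (B : GL (Fin 2) F) (e : F), dtm B = S.d * S.d →
      (∀ C : GL (Fin 2) F, dtm C = S.d * S.d →
        C 0 0 = B 0 0 + k' * e * B 1 0 - (B 0 1 + k' * e * B 1 1) * e →
        C 0 1 = B 0 1 + k' * e * B 1 1 → C 1 0 = B 1 0 - B 1 1 * e → C 1 1 = B 1 1 → S.Cl N C) →
      S.Cl N B := by
    intro B e hB h
    refine S.step_L (h5 e) (h _ ?_ ?_ ?_ ?_ ?_)
    · rw [low_inv, dtm_mul, dtm_mul, dtm_low, dtm_up, hB, one_mul, mul_one]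
    all_goals rw [low_inv]
    all_goals
      simp [up, low, Matrix.mul_apply, Matrix.vecMul, dotProduct, Fin.sum_univ_two]
    all_goals ring
  -- minus the scalar
  have minus : ∀ B : GL (Fin 2) F, dtm B = S.d * S.d → B 0 0 = -S.d → B 1 1 = -S.d → B 0 1 = 0 →
      B 1 0 = 0 → 4 * S.d ≠ 0 → S.Cl N B := by
    intro B hB b00 b11 b01 b10 h4d
    by_cases hex : ∃ c : F, c ≠ 0 ∧ k * c * c ≠ 4
    · obtain ⟨c, hc, hc4⟩ := hex
      refine mU B c hB fun C hC e00 e01 e10 e11 => hgood _ (S.good_of hC ?_ (.inr (.inl ?_)))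
      · rw [e00, e11, b00, b01, b10, b11]
        intro e
        exact hc4 (mul_right_cancel₀ S.hd (by linear_combination e))
      · rw [e01, b00, b01, zero_sub, neg_mul, neg_neg]
        exact mul_ne_zero S.hd hc
    · push Not at hex
      have h2 : (2 : F) ≠ 0 := fun e => h4d (by linear_combination (2 * S.d) * e)
      have hk4 : k = 4 := by simpa using hex 1 one_ne_zero
      have h12 := hex 2 h2
      rw [hk4] at h12
      have h3' : (3 : F) = 0 := by
        have h4 : (4 : F) ≠ 0 := fun e => h4d (by rw [e, zero_mul])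
        exact (mul_eq_zero.1 (show (4 : F) * 3 = 0 by linear_combination h12)).resolve_left h4
      have hk1 : k = 1 := by linear_combination hk4 + h3'
      have hk1' : k' = 1 := by rw [hk1, mul_one] at hkk; exact hkk
      refine mU B 1 hB fun C hC e00 e01 e10 e11 => ?_
      refine mL C 1 hC fun E hE f00 f01 f10 f11 => hgood _ (S.good_of hE ?_ (.inr (.inl ?_)))
      · rw [f00, f11, e00, e01, e10, e11, b00, b01, b10, b11, hk1, hk1']
        intro e
        refine h2 ((mul_eq_zero.1 (show (2 : F) * S.d = 0 from ?_)).resolve_right S.hd)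
        linear_combination -e - S.d * h3'
      · rw [f01, e01, e11, b00, b01, b10, b11, hk1, hk1']
        intro e
        exact S.hd (by linear_combination e)
  -- lower triangular
  have lower : ∀ B : GL (Fin 2) F, dtm B = S.d * S.d → B 0 1 = 0 → S.Cl N B := by
    intro B hB b01
    have had : B 0 0 * B 1 1 = S.d * S.d := by rw [← hB, dtm, b01, zero_mul, sub_zero]
    by_cases ht : B 0 0 + B 1 1 = 2 * S.d
    · obtain ⟨b00, b11⟩ := S.diag_eq had ht
      by_cases b10 : B 1 0 = 0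
      · exact hgood _ (S.good_scalar hB b00 b11 b01 b10)
      · obtain ⟨c, hc, hc'⟩ := exists_ne_ne h3 (-B 1 0 / (k * S.d))
        refine mU B c hB fun C hC e00 e01 e10 e11 => hgood _ (S.good_of hC ?_ (.inr (.inl ?_)))
        · rw [e00, e11, b00, b01, b11]
          intro e
          apply hc'
          rw [eq_div_iff (mul_ne_zero hk S.hd)]
          exact mul_left_cancel₀ hc (by linear_combination -e)
        · rw [e01, b00, b01, zero_sub]
          exact neg_ne_zero.2 (mul_ne_zero S.hd hc)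
    · by_cases hns : NS B
      · exact hgood _ (S.good_of hB ht hns)
      · simp only [NS, not_or, not_not] at hns
        obtain ⟨b10, -, beq⟩ := hns
        have hneg : B 0 0 = -S.d := by
          rw [← beq] at had ht
          rcases mul_self_eq_mul_self_iff.1 had with h | h
          · exact absurd (by rw [h]; ring) ht
          · exact h
        refine minus B hB hneg (beq ▸ hneg) b01 b10 fun e => ht ?_
        rw [← beq, hneg]
        linear_combination -e
  -- nonzero corner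
  have corner : ∀ B : GL (Fin 2) F, dtm B = S.d * S.d → B 0 0 ≠ 0 → S.Cl N B := by
    intro B hB ha
    refine mU B (B 0 1 / B 0 0) hB fun C hC e00 e01 e10 e11 => lower C hC ?_
    rw [e01, mul_div_cancel₀ _ ha, sub_self]
  by_cases ha : A 0 0 = 0
  · have hbg : A 1 0 ≠ 0 := fun e => dtm_ne A (by rw [dtm, ha, e]; ring)
    by_cases hkb : k * A 0 1 - A 1 0 = 0
    · by_cases hd2 : A 1 1 = 2 * S.d
      · by_cases hd0 : A 1 1 = 0
        · exact hfall ((mul_eq_zero.1 (hd2.symm.trans hd0)).resolve_right S.hd) A ha hd0 hA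
        · refine mL A 1 hA fun C hC e00 e01 e10 e11 => corner C hC ?_
          rw [e00, ha]
          intro e
          refine hd0 ((mul_eq_zero.1 (show k' * A 1 1 = 0 from ?_)).resolve_left hk')
          linear_combination -e + A 0 1 * hkk - k' * hkb
      · exact hgood _ (S.good_of hA (by rw [ha, zero_add]; exact hd2) (.inl hbg))
    · refine mU A ((2 * S.d + 1 - A 1 1) / (k * A 0 1 - A 1 0)) hA
        fun C hC e00 e01 e10 e11 => hgood _ (S.good_of hC ?_ (.inl ?_))
      · rw [e00, e11, ha]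
        intro e
        refine two_d_succ_ne S.d ?_
        have := div_mul_cancel₀ (2 * S.d + 1 - A 1 1) hkb
        linear_combination e - this
      · rw [e10, ha, mul_zero, zero_add]; exact hbg
  · exact corner A hA ha

end CfsgLib.Known.G2Square
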