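import Cfsg.Agent.Lib.Known.G2Square.Cases
import Cfsg.Agent.Lib.Known.OddInvol.Moves

/-!
Every element outside the parabolic subgroup lies in a covered cell.
-/

set_option autoImplicit false
set_option maxRecDepth 10000

namespace CfsgLib.Known.G2Square

open Cfsg.Lie CfsgLib.Chev
open CfsgLib.Chev.Invol.G2 (I0 I1 pv can sW_val sW_ext reduce)
open CfsgLib.Known.G2Singer (facts commute_xU)

variable {F : Type*} [Field F]

theorem lt_nroots {r : ℕ} (h : r < 12) : r < chevG2.nroots := G2.nroots_eq.symm ▸ h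

theorem nU_perm {w : List (Fin chevG2.rank)} {i : Fin chevG2.rank} {r : ℕ}
    (h : pv w (chevG2.simple i.val) = r) {t : F} (ht : t ≠ 0) :
    nU chevG2 r t ∈ chevG2.monomialSubgroup F ∧
      PermAct (nU chevG2 r t) (sW chevG2 (w ++ i :: w.reverse)) := by
  have h1 := OddInvol.permAct_nU (F := F) facts w i ht
  rw [sW_val, show (facts.simpleFin i).val = chevG2.simple i.val from rfl, h] at h1
  rw [sW_append, sW_cons, facts.sW_reverse, ← mul_assoc]
  exact h1

theorem conj_inv_xU {N : GL chevG2.Idx F} {W : List (Fin chevG2.rank)}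
    (hm : N ∈ chevG2.monomialSubgroup F) (hN : PermAct N (sW chevG2 W)) {s : ℕ} (hs : s < 12) :
    ∃ k : F, k ≠ 0 ∧ ∀ c, N⁻¹ * xU chevG2 s c * N = xU chevG2 (pv W.reverse s) (k * c) := by
  have h := facts.permAct_inv hm hN
  rw [← facts.sW_reverse] at h
  obtain ⟨k, hk, h1, -⟩ := h ⟨s, lt_nroots hs⟩
  refine ⟨k, hk, fun c => ?_⟩
  have := h1 c
  rwa [inv_inv, sW_val] at this

theorem nU_eq_mul_hU {r : ℕ} (hr : r < chevG2.nroots) (t : F) :
    nU chevG2 r (-1) = nU chevG2 r (-t) * hU chevG2 r t := by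
  rw [hU, ← mul_assoc, show nU chevG2 r (-t) = (nU chevG2 r t)⁻¹ from (facts.nU_inv hr t).symm,
    inv_mul_cancel, one_mul]

theorem nU_self_mul {r : ℕ} (hr : r < chevG2.nroots) (v : Fˣ) :
    nU chevG2 r (v : F) * nU chevG2 r (v : F) = dU chevG2 (prChar chevG2 r (-1)) := by
  have e : nU chevG2 r (v : F) * nU chevG2 r (v : F) =
      hU chevG2 r (v : F) * (hU chevG2 r ((-v : Fˣ) : F))⁻¹ := by
    rw [hU, hU, mul_inv_rev, facts.nU_inv hr, facts.nU_inv hr, Units.val_neg, neg_neg, neg_neg,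
      show nU chevG2 r (1 : F) = (nU chevG2 r (-1 : F))⁻¹ by rw [facts.nU_inv hr, neg_neg]]
    group
  rw [e, facts.hU_eq hr, facts.hU_eq hr, dU_inv, dU_mul]
  refine dU_congr fun s _ => ?_
  show v ^ prE chevG2 r s * ((-v) ^ prE chevG2 r s)⁻¹ = (-1 : Fˣ) ^ prE chevG2 r s
  rw [← div_eq_mul_inv, ← div_zpow]
  congr 1
  rw [div_eq_iff_eq_mul, neg_mul_neg, one_mul]

theorem nU_neg {r : ℕ} (t : F) : nU chevG2 r t =
    xU chevG2 r t * xU chevG2 (chevG2.neg r) (-t⁻¹) * xU chevG2 r t := rfl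

theorem pair_comm : ∀ p ∈ [((10 : ℕ), (8 : ℕ)), (10, 3), (1, 8), (1, 3)],
    p.2 ≠ chevG2.neg p.1 ∧ chevG2.commTerms p.1 p.2 = [] := by decide +kernel

theorem neg_vals : chevG2.neg 10 = 1 ∧ chevG2.neg 8 = 3 ∧ chevG2.neg 9 = 2 := by decide +kernel

theorem xU_pair (t u : F) {a b : ℕ} (h : (a, b) ∈ [((10 : ℕ), (8 : ℕ)), (10, 3), (1, 8), (1, 3)]) :
    Commute (xU chevG2 a t) (xU chevG2 b u) :=
  commute_xU (lt_nroots (by simp at h; omega)) (lt_nroots (by simp at h; omega))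
    (.inr (pair_comm (a, b) h)) t u

theorem nU_pair (t u : F) : Commute (nU chevG2 10 t) (nU chevG2 8 u) := by
  obtain ⟨n10, n8, -⟩ := neg_vals
  rw [nU_neg, nU_neg, n10, n8]
  have a := fun t u : F => xU_pair t u (a := 10) (b := 8) (by simp)
  have b := fun t u : F => xU_pair t u (a := 10) (b := 3) (by simp)
  have c := fun t u : F => xU_pair t u (a := 1) (b := 8) (by simp)
  have d := fun t u : F => xU_pair t u (a := 1) (b := 3) (by simp)
  exact (((a _ _).mul_right (b _ _)).mul_right (a _ _)).mul_left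
    (((c _ _).mul_right (d _ _)).mul_right (c _ _)) |>.mul_left
    (((a _ _).mul_right (b _ _)).mul_right (a _ _))

/-- The word of the pair of orthogonal roots. -/
abbrev Wp : List (Fin chevG2.rank) := [I0, I1, I0] ++ [I1, I0, I1]

theorem pair_data : pv Wp.reverse 6 = 5 ∧ pv Wp.reverse 5 = 6 ∧
    prE chevG2 10 6 + prE chevG2 8 6 = 2 ∧ prE chevG2 10 8 = 0 ∧ prE chevG2 10 3 = 0 ∧
    (∀ s : Fin chevG2.nroots, pv (Wp ++ [I1]) s.val = pv [I0, I1, I0, I1, I0] s.val) := by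
  decide +kernel

theorem hU_comm_nU8 (t : Fˣ) (u : F) : Commute (hU chevG2 10 (t : F)) (nU chevG2 8 u) := by
  obtain ⟨-, -, -, h8, h3, -⟩ := pair_data
  obtain ⟨-, n8, -⟩ := neg_vals
  have key : ∀ s, s < 12 → prE chevG2 10 s = 0 → ∀ c : F,
      Commute (hU chevG2 10 (t : F)) (xU chevG2 s c) := fun s hs h c => by
    have := facts.hU_conj_xU (lt_nroots (by omega : 10 < 12)) (lt_nroots hs) t c
    rw [h, zpow_zero, Units.val_one, one_mul] at this
    exact mul_inv_eq_iff_eq_mul.1 this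
  rw [nU_neg, n8]
  exact ((key 8 (by omega) h8 _).mul_right (key 3 (by omega) h3 _)).mul_right (key 8 (by omega) h8 _)

variable [Finite F] (S : SData F)

theorem dtm_dd (a d : Fˣ) : dtm (dd a d) = (a : F) * d := by simp [dtm, dd]

/-- Normalisation of the determinant. -/
theorem SData.cl_root {r : ℕ} {x : ℤ}
    (hmem : (r, x, (1 : ℤ)) ∈ [((7 : ℕ), (-1 : ℤ), (1 : ℤ)), (8, 2, 1), (9, 1, 2), (10, 0, 1),
      (11, 1, 1)])
    (h : ∀ v : F, v ≠ 0 → ∀ A, dtm A = S.d * S.d → S.Cl (nU chevG2 r v) A) (A : GL (Fin 2) F) :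
    S.Cl (nU chevG2 r (-1)) A := by
  intro q hq
  have hr : r < chevG2.nroots := lt_nroots (by simp at hmem; omega)
  obtain ⟨t, ht⟩ : ∃ t : Fˣ, (t : F) = S.d * S.d / dtm A :=
    ⟨Units.mk0 _ (div_ne_zero (mul_ne_zero S.hd S.hd) (dtm_ne A)), rfl⟩
  have := h (-(t : F)) (neg_ne_zero.2 t.ne_zero) (dd (t ^ x) (t ^ (1 - x)) * A) (by
    rw [dtm_mul, dtm_dd, ← Units.val_mul, ← zpow_add, add_sub_cancel, zpow_one, ht,
      div_mul_cancel₀ _ (dtm_ne A)]) q hq
  rw [map_mul, ← hU_levi hmem, ← mul_assoc (nU chevG2 r (-(t : F))), ← nU_eq_mul_hU hr] at this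
  exact this

/-- The cells of a single reflection. -/
theorem SData.cl_single {r : ℕ} {x : ℤ} {w : List (Fin chevG2.rank)} {i : Fin chevG2.rank}
    (hmem : (r, x, (1 : ℤ)) ∈ [((7 : ℕ), (-1 : ℤ), (1 : ℤ)), (8, 2, 1), (9, 1, 2), (10, 0, 1),
      (11, 1, 1)])
    (hp : pv w (chevG2.simple i.val) = r)
    (hd : 7 ≤ r ∧ chevG2.neg r ≤ 4 ∧ (7 ≤ pv (w ++ i :: w.reverse).reverse 6 ∨
      7 ≤ pv (w ++ i :: w.reverse).reverse 5)) (A : GL (Fin 2) F) :
    S.Cl (nU chevG2 r (-1)) A := by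
  obtain ⟨h7, hneg, hor⟩ := hd
  have hr : r < chevG2.nroots := lt_nroots (by simp at hmem; omega)
  refine S.cl_root hmem (fun v hv B hB => ?_) A
  have hgood : ∀ C, S.Good C → S.Cl (nU chevG2 r v) C := fun C hC =>
    S.cl_of_good (xU_mem_Qp hr h7 v) (xU_mem_Qm (facts.neg_lt hr) hneg _) (nU_neg v) hC
  obtain ⟨hm, hP⟩ := nU_perm hp hv
  have move : ∀ s < 12, 7 ≤ pv (w ++ i :: w.reverse).reverse s → ∀ c : F,
      (nU chevG2 r v)⁻¹ * xU chevG2 s c * nU chevG2 r v ∈ Qp F := fun s hs h c => by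
    obtain ⟨k, -, hk⟩ := conj_inv_xU hm hP hs
    rw [hk]
    exact xU_mem_Qp (by rw [← sW_val _ ⟨s, lt_nroots hs⟩]; exact Fin.isLt _) h _
  rcases hor with h | h
  · exact S.cl_single_up (fun c => by rw [L_up]; exact move 6 (by omega) h c) hgood hB
  · exact S.cl_single_low (fun c => by rw [L_low]; exact move 5 (by omega) h c) hgood hB

/-- The cells of the pair of orthogonal roots. -/
theorem SData.cl_double (h3 : 3 ≤ Nat.card F) (A : GL (Fin 2) F) :
    S.Cl (nU chevG2 10 (-1) * nU chevG2 8 (-1)) A := by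
  classical
  have h10 : 10 < chevG2.nroots := lt_nroots (by omega)
  have h8 : 8 < chevG2.nroots := lt_nroots (by omega)
  obtain ⟨n10, n8, n9⟩ := neg_vals
  obtain ⟨w6, w5, hpar, -, -, h9⟩ := pair_data
  intro q hq
  obtain ⟨t, ht⟩ : ∃ t : Fˣ, (t : F) = S.d * S.d / dtm A :=
    ⟨Units.mk0 _ (div_ne_zero (mul_ne_zero S.hd S.hd) (dtm_ne A)), rfl⟩
  have hmem : ((10 : ℕ), (0 : ℤ), (1 : ℤ)) ∈ [((7 : ℕ), (-1 : ℤ), (1 : ℤ)), (8, 2, 1), (9, 1, 2),
      (10, 0, 1), (11, 1, 1)] := by simp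
  obtain ⟨v, hv⟩ : ∃ v : Fˣ, v = -t := ⟨_, rfl⟩
  obtain ⟨e, he⟩ : ∃ e : Fˣ, e = -1 := ⟨_, rfl⟩
  set N := nU chevG2 10 (v : F) * nU chevG2 8 (e : F) with hN
  suffices hmain : ∀ B, dtm B = S.d * S.d → S.Cl N B by
    have := hmain (dd (t ^ (0 : ℤ)) (t ^ ((1 : ℤ) - 0)) * A) (by
      rw [dtm_mul, dtm_dd, ← Units.val_mul, ← zpow_add, add_sub_cancel, zpow_one, ht,
        div_mul_cancel₀ _ (dtm_ne A)]) q hq
    have hsw : nU chevG2 10 (-1 : F) * nU chevG2 8 (-1) = N * hU chevG2 10 (t : F) := by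
      rw [hN, hv, he, Units.val_neg, Units.val_neg, Units.val_one, mul_assoc,
        ← (hU_comm_nU8 t (-1)).eq, ← mul_assoc, ← nU_eq_mul_hU h10]
    rw [map_mul, ← hU_levi hmem, ← mul_assoc N, ← hsw] at this
    exact this
  intro B hB
  have hgood : ∀ C, S.Good C → S.Cl N C := fun C hC => by
    refine S.cl_of_good (X := xU chevG2 10 (v : F) * xU chevG2 8 (e : F))
      (Y := xU chevG2 1 (-(v : F)⁻¹) * xU chevG2 3 (-(e : F)⁻¹))
      (mul_mem (xU_mem_Qp h10 (by omega) _) (xU_mem_Qp h8 (by omega) _))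
      (mul_mem (xU_mem_Qm (lt_nroots (by omega)) (by omega) _)
        (xU_mem_Qm (lt_nroots (by omega)) (by omega) _)) ?_ hC
    rw [hN, nU_neg, nU_neg, n10, n8]
    have ca := fun t u : F => (xU_pair t u (a := 10) (b := 8) (by simp)).eq
    have cb := fun t u : F => (xU_pair t u (a := 10) (b := 3) (by simp)).eq
    have cc := fun t u : F => (xU_pair t u (a := 1) (b := 8) (by simp)).eq
    have ca' := ca (v : F) (e : F)
    have cb' := cb (v : F) (-(e : F)⁻¹)
    have cc' := cc (-(v : F)⁻¹) (e : F)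
    generalize xU chevG2 10 (v : F) = a at *
    generalize xU chevG2 1 (-(v : F)⁻¹) = b at *
    generalize xU chevG2 8 (e : F) = c at *
    generalize xU chevG2 3 (-(e : F)⁻¹) = d at *
    calc a * b * a * (c * d * c) = a * b * (a * c) * d * c := by group
      _ = a * b * c * (a * d) * c := by rw [ca']; group
      _ = a * (b * c) * d * a * c := by rw [cb']; group
      _ = _ := by rw [cc']; group
  obtain ⟨m10, p10⟩ := nU_perm (w := [I0]) (i := I1) (r := 10) (by decide +kernel) v.ne_zero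
  obtain ⟨m8, p8⟩ := nU_perm (w := [I1]) (i := I0) (r := 8) (by decide +kernel) e.ne_zero
  have hm : N ∈ chevG2.monomialSubgroup F := mul_mem m10 m8
  have hP : PermAct N (sW chevG2 Wp) := by
    rw [hN, show Wp = ([I0] ++ I1 :: [I0].reverse) ++ ([I1] ++ I0 :: [I1].reverse) from rfl,
      sW_append]
    exact facts.permAct_mul p10 p8
  obtain ⟨k, -, hk⟩ := conj_inv_xU hm hP (s := 6) (by omega)
  obtain ⟨k', -, hk'⟩ := conj_inv_xU hm hP (s := 5) (by omega)
  rw [w6] at hk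
  rw [w5] at hk'
  have hNN : N * N = dU chevG2 (fun s => prChar chevG2 10 (-1 : Fˣ) s * prChar chevG2 8 (-1) s) := by
    rw [← dU_mul, ← nU_self_mul h10 v, ← nU_self_mul h8 e, hN]
    exact (nU_pair (v : F) (e : F)).symm.mul_mul_mul_comm _ _
  have hkk : k' * k = 1 := by
    have h6 : N * N * xU chevG2 6 1 * (N * N)⁻¹ = xU chevG2 6 1 := by
      rw [hNN, ← dU_mul, ← facts.hU_eq h10, ← facts.hU_eq h8]
      rw [show hU chevG2 10 ((-1 : Fˣ) : F) * hU chevG2 8 ((-1 : Fˣ) : F) * xU chevG2 6 1 *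
        (hU chevG2 10 ((-1 : Fˣ) : F) * hU chevG2 8 ((-1 : Fˣ) : F))⁻¹ =
        hU chevG2 10 ((-1 : Fˣ) : F) * (hU chevG2 8 ((-1 : Fˣ) : F) * xU chevG2 6 1 *
          (hU chevG2 8 ((-1 : Fˣ) : F))⁻¹) * (hU chevG2 10 ((-1 : Fˣ) : F))⁻¹ by group,
        facts.hU_conj_xU h8 (lt_nroots (by omega)), facts.hU_conj_xU h10 (lt_nroots (by omega)),
        ← mul_assoc, ← Units.val_mul, ← zpow_add, hpar]
      simp
    have h2 : N⁻¹ * (N⁻¹ * xU chevG2 6 1 * N) * N = xU chevG2 6 1 := by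
      conv_lhs => rw [← h6]
      group
    rw [hk, hk', mul_one] at h2
    exact facts.xU_left_inj (lt_nroots (by omega)) h2
  refine S.cl_pair h3 hkk (fun c => by rw [L_up, L_low, hk]) (fun c => by rw [L_low, L_up, hk'])
    hgood (fun h2 C c00 c11 hC => ?_) hB
  -- characteristic two: the cell is that of `2a + b`
  have hdet := dtm_ne C
  rw [dtm, c00, zero_mul, zero_sub, neg_ne_zero] at hdet
  obtain ⟨a, ha⟩ : ∃ a : Fˣ, (a : F) = -C 1 0 :=
    ⟨Units.mk0 _ (neg_ne_zero.2 (right_ne_zero_of_mul hdet)), rfl⟩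
  obtain ⟨b, hb⟩ : ∃ b : Fˣ, (b : F) = C 0 1 :=
    ⟨Units.mk0 _ (left_ne_zero_of_mul hdet), rfl⟩
  have eC : C = up 1 * low (-1) * up 1 * dd a b := by
    refine gl_ext ?_ ?_ ?_ ?_ <;>
      simp [up, low, dd, Matrix.mul_apply, Fin.sum_univ_two, c00, c11, ha, hb]
  obtain ⟨m6, p6⟩ := nU_perm (F := F) (w := []) (i := I1) (r := 6) (by decide +kernel) one_ne_zero
  obtain ⟨m9, p9⟩ := nU_perm (F := F) (w := [I0, I1]) (i := I0) (r := 9) (by decide +kernel)
    (neg_ne_zero.2 one_ne_zero)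
  have hmC : N * L C ∈ chevG2.monomialSubgroup F ∧
      PermAct (N * L C) (sW chevG2 ([I0, I1, I0, I1, I0] : List (Fin chevG2.rank))) := by
    rw [eC, map_mul, L_wGL]
    refine ⟨mul_mem hm (mul_mem m6 (Subgroup.mem_sup_left (L_dd_mem_diagonal a b))), ?_⟩
    rw [← sW_ext h9, sW_append, ← mul_one (sW chevG2 Wp * sW chevG2 [I1]), ← mul_assoc N]
    exact facts.permAct_mul (facts.permAct_mul hP p6) (facts.permAct_diagonal (L_dd_mem_diagonal a b))
  have hdiag : (nU chevG2 9 (-1 : F))⁻¹ * (N * L C) ∈ chevG2.diagonalSubgroup F := by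
    refine facts.mem_diagonal_of_permAct (mul_mem (inv_mem m9) hmC.1) ?_
    have := facts.permAct_mul (facts.permAct_inv m9 p9) hmC.2
    rwa [show ([I0, I1] ++ I0 :: [I0, I1].reverse : List (Fin chevG2.rank)) =
      [I0, I1, I0, I1, I0] from rfl, inv_mul_cancel] at this
  obtain ⟨a', d', had⟩ := diagonal_levi hdiag
  obtain ⟨r, hr⟩ := FiniteField.isSquare_of_char_two (F := F)
    (CharP.ringChar_of_prime_eq_zero Nat.prime_two (by exact_mod_cast h2))
    (S.d * S.d / ((a' : F) * d'))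
  have hr0 : r ≠ 0 := fun e => div_ne_zero (mul_ne_zero S.hd S.hd)
    (mul_ne_zero a'.ne_zero d'.ne_zero) (hr.trans (by rw [e, mul_zero]))
  obtain ⟨u, hu⟩ : ∃ u : Fˣ, (u : F) = r := ⟨Units.mk0 r hr0, rfl⟩
  have hprod : dtm (dd u u * dd a' d') = S.d * S.d := by
    rw [dtm_mul, dtm_dd, dtm_dd, hu, ← hr, div_mul_cancel₀]
    exact mul_ne_zero a'.ne_zero d'.ne_zero
  have hG : S.Good (dd u u * dd a' d') := by
    have e01 : (dd u u * dd a' d') 0 1 = 0 := by simp [dd, Matrix.mul_apply, Fin.sum_univ_two]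
    have e10 : (dd u u * dd a' d') 1 0 = 0 := by simp [dd, Matrix.mul_apply, Fin.sum_univ_two]
    have hp2 : (dd u u * dd a' d') 0 0 * (dd u u * dd a' d') 1 1 = S.d * S.d := by
      rw [← hprod, dtm, e01, zero_mul, sub_zero]
    by_cases heq : (dd u u * dd a' d') 0 0 + (dd u u * dd a' d') 1 1 = 2 * S.d
    · obtain ⟨g1, g2⟩ := S.diag_eq hp2 heq
      exact S.good_scalar hprod g1 g2 e01 e10
    · refine S.good_of hprod heq (.inr (.inr fun e => heq ?_))
      rw [e, ← two_mul, h2, zero_mul, zero_mul]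
  intro q hq
  have hmem9 : ((9 : ℕ), (1 : ℤ), (2 : ℤ)) ∈ [((7 : ℕ), (-1 : ℤ), (1 : ℤ)), (8, 2, 1), (9, 1, 2),
      (10, 0, 1), (11, 1, 1)] := by simp
  have h9lt : 9 < chevG2.nroots := lt_nroots (by omega)
  have := S.cl_of_good (xU_mem_Qp h9lt (by omega) (-(u : F)))
    (xU_mem_Qm (facts.neg_lt h9lt) (by rw [n9]; omega) _) (nU_neg (-(u : F))) hG q hq
  rw [map_mul, show dd u u = dd (u ^ (1 : ℤ)) (u ^ ((2 : ℤ) - 1)) by norm_num, ← hU_levi hmem9,
    ← mul_assoc (nU chevG2 9 (-(u : F))), ← nU_eq_mul_hU h9lt, had, mul_inv_cancel_left] at this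
  exact this

/-- The six cells. -/
def Rs : List (List (Fin chevG2.rank)) :=
  [[], [I0], [I1, I0, I1], [I0, I1, I0], [I1, I0, I1, I0, I1], Wp]

theorem table : ∀ m ∈ can, ∃ R ∈ Rs, ∃ e ∈ [[], [I1]],
    ∀ s : Fin chevG2.nroots, pv m s.val = pv (R ++ e) s.val := by decide +kernel

theorem single_data : (∀ p ∈ [(([] : List (Fin chevG2.rank)), I0, (7 : ℕ)), ([I1], I0, 8),
    ([I0], I1, 10), ([I1, I0], I1, 11)], pv p.1 (chevG2.simple p.2.1.val) = p.2.2 ∧
      7 ≤ p.2.2 ∧ chevG2.neg p.2.2 ≤ 4 ∧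
      (7 ≤ pv (p.1 ++ p.2.1 :: p.1.reverse).reverse 6 ∨
        7 ≤ pv (p.1 ++ p.2.1 :: p.1.reverse).reverse 5)) := by decide +kernel

theorem SData.cov_not_mem_P1 (h3 : 3 ≤ Nat.card F) {g : GL chevG2.Idx F}
    (hg : g ∈ chevG2.group F) (hP : g ∉ P1 F) : Cov S.x g := by
  obtain ⟨b, hb, n, hn, σ, -, u, hu, rfl⟩ := facts.bruhat_exists DataG2.commF hg
  have hub : u * b ∈ P1 F := mul_mem
    (borel_le_P1 (facts.pos_le_borel (rootClosure_mono (fun _ _ h => h.2.1) hu))) (borel_le_P1 hb)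
  have finish : ∀ NR : GL chevG2.Idx F, (∀ A, S.Cl NR A) → ∀ A, n = NR * L A →
      Cov S.x (b * n * u) := by
    intro NR hcl A hA
    obtain ⟨B, q, hq, hBq⟩ := mem_P1.1 hub
    refine cov_of (inv_mem (facts.borel_le_group hb)) ?_
    have e : b⁻¹ * (b * n * u) * b⁻¹⁻¹ = NR * L (A * B) * q := by
      rw [map_mul, hA]
      calc b⁻¹ * (b * (NR * L A) * u) * b⁻¹⁻¹ = NR * L A * (u * b) := by group
        _ = _ := by rw [hBq]; group
    rw [e]
    exact hcl _ q hq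
  obtain ⟨l, h, hh, hnl⟩ := facts.exists_nW hn
  have hPn : PermAct n (sW chevG2 l) := by
    rw [hnl, ← mul_one (sW chevG2 l)]
    exact facts.permAct_mul (facts.permAct_nW l) (facts.permAct_diagonal hh)
  obtain ⟨m, hm, hlm⟩ := reduce l
  obtain ⟨R, hR, e, he, hpe⟩ := table m hm
  rw [hlm, sW_ext hpe, sW_append] at hPn
  have key : ∀ NR ∈ chevG2.monomialSubgroup F, PermAct NR (sW chevG2 R) →
      ∃ A, n = NR * L A := by
    intro NR hNR hPR
    obtain ⟨E, hE, hPE⟩ : ∃ E : GL (Fin 2) F, L E ∈ chevG2.monomialSubgroup F ∧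
        PermAct (L E) (sW chevG2 e) := by
      simp only [List.mem_cons, List.not_mem_nil, or_false] at he
      rcases he with rfl | rfl
      · refine ⟨1, by rw [map_one]; exact one_mem _, ?_⟩
        rw [map_one, sW_nil]
        exact facts.permAct_diagonal (one_mem _)
      · refine ⟨up 1 * low (-1) * up 1, ?_⟩
        rw [L_wGL]
        exact nU_perm (w := []) (i := I1) (by decide +kernel) one_ne_zero
    have hd : (NR * L E)⁻¹ * n ∈ chevG2.diagonalSubgroup F := by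
      refine facts.mem_diagonal_of_permAct (mul_mem (inv_mem (mul_mem hNR hE)) hn) ?_
      have := facts.permAct_mul (facts.permAct_inv (mul_mem hNR hE) (facts.permAct_mul hPR hPE)) hPn
      rwa [inv_mul_cancel] at this
    obtain ⟨a, d, had⟩ := diagonal_levi hd
    exact ⟨E * dd a d, by rw [map_mul, had]; group⟩
  have single : ∀ (x : ℤ) (w : List (Fin chevG2.rank)) (i : Fin chevG2.rank) (r : ℕ),
      (w, i, r) ∈ [(([] : List (Fin chevG2.rank)), I0, (7 : ℕ)), ([I1], I0, 8),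
        ([I0], I1, 10), ([I1, I0], I1, 11)] →
      (r, x, (1 : ℤ)) ∈ [((7 : ℕ), (-1 : ℤ), (1 : ℤ)), (8, 2, 1), (9, 1, 2), (10, 0, 1),
        (11, 1, 1)] →
      R = w ++ i :: w.reverse → Cov S.x (b * n * u) := by
    intro x w i r h1 h2 hR'
    obtain ⟨hp, hd⟩ := single_data (w, i, r) h1
    obtain ⟨hmono, hperm⟩ := nU_perm (F := F) hp (neg_ne_zero.2 one_ne_zero)
    obtain ⟨A, hA⟩ := key _ hmono (hR' ▸ hperm)
    exact finish _ (S.cl_single h2 hp hd) A hA
  simp only [Rs, List.mem_cons, List.not_mem_nil, or_false] at hR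
  rcases hR with rfl | rfl | rfl | rfl | rfl | rfl
  · exfalso
    obtain ⟨A, hA⟩ := key 1 (one_mem _) (by rw [sW_nil]; exact facts.permAct_diagonal (one_mem _))
    refine hP (mul_mem (mul_mem (borel_le_P1 hb) ?_)
      (borel_le_P1 (facts.pos_le_borel (rootClosure_mono (fun _ _ h => h.2.1) hu))))
    rw [hA, one_mul]
    exact Subgroup.mem_sup_left ⟨A, rfl⟩
  · exact single (-1) [] I0 7 (by simp) (by simp) rfl
  · exact single 2 [I1] I0 8 (by simp) (by simp) rfl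
  · exact single 0 [I0] I1 10 (by simp) (by simp) rfl
  · exact single 1 [I1, I0] I1 11 (by simp) (by simp) rfl
  · obtain ⟨m10, p10⟩ := nU_perm (F := F) (w := [I0]) (i := I1) (r := 10) (by decide +kernel)
      (neg_ne_zero.2 one_ne_zero)
    obtain ⟨m8, p8⟩ := nU_perm (F := F) (w := [I1]) (i := I0) (r := 8) (by decide +kernel)
      (neg_ne_zero.2 one_ne_zero)
    obtain ⟨A, hA⟩ := key _ (mul_mem m10 m8) (by
      rw [show Wp = ([I0] ++ I1 :: [I0].reverse) ++ ([I1] ++ I0 :: [I1].reverse) from rfl, sW_append]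
      exact facts.permAct_mul p10 p8)
    exact finish _ (S.cl_double h3) A hA

end CfsgLib.Known.G2Square
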