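import Cfsg.Agent.Lib.Known.G2Square.GLTwo

/-!
Elements covered by the square of the class of the Levi element.
-/

set_option autoImplicit false

namespace CfsgLib.Known.G2Square

open Cfsg.Lie CfsgLib.Chev

variable {F : Type*} [Field F] [Finite F]

/-- The group element which is a product of two conjugates of `x`. -/
def Cov (x g : GL chevG2.Idx F) : Prop :=
  ∃ u ∈ chevG2.group F, ∃ v ∈ chevG2.group F, g = u * x * u⁻¹ * (v * x * v⁻¹)

theorem cov_of {x g z : GL chevG2.Idx F} (hz : z ∈ chevG2.group F) (h : Cov x (z * g * z⁻¹)) :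
    Cov x g := by
  obtain ⟨u, hu, v, hv, e⟩ := h
  refine ⟨z⁻¹ * u, mul_mem (inv_mem hz) hu, z⁻¹ * v, mul_mem (inv_mem hz) hv, ?_⟩
  calc g = z⁻¹ * (z * g * z⁻¹) * z := by group
    _ = _ := by rw [e]; group

omit [Finite F] in
theorem conj_fill {H : Subgroup (GL chevG2.Idx F)} [Finite H] {x : GL chevG2.Idx F}
    (hn : ∀ v ∈ H, x * v * x⁻¹ ∈ H) (hn' : ∀ v ∈ H, x⁻¹ * v * x ∈ H)
    (hfix : ∀ v ∈ H, x * v * x⁻¹ = v → v = 1) :
    (∀ h ∈ H, ∃ v ∈ H, h * x = v * x * v⁻¹) ∧ (∀ h ∈ H, ∃ v ∈ H, x * h = v * x * v⁻¹) := by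
  have hinj : ∀ v w : H, (v : GL chevG2.Idx F) * x * (v : GL chevG2.Idx F)⁻¹ =
      (w : GL chevG2.Idx F) * x * (w : GL chevG2.Idx F)⁻¹ → v = w := by
    intro v w h
    have h1 := hfix _ (mul_mem (inv_mem w.2) v.2) (by
      calc x * ((w : GL chevG2.Idx F)⁻¹ * v) * x⁻¹
          = (w : GL chevG2.Idx F)⁻¹ * ((w : GL chevG2.Idx F) * x * (w : GL chevG2.Idx F)⁻¹) * v * x⁻¹ := by
            group
        _ = _ := by rw [← h]; group)
    exact Subtype.ext (inv_mul_eq_one.1 h1).symm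
  refine ⟨fun h hh => ?_, fun h hh => ?_⟩
  · let f : H → H := fun v => ⟨(v : GL chevG2.Idx F) * (x * (v : GL chevG2.Idx F)⁻¹ * x⁻¹),
      mul_mem v.2 (hn _ (inv_mem v.2))⟩
    have hf : Function.Injective f := fun v w e => hinj v w (by
      have e' : (v : GL chevG2.Idx F) * (x * (v : GL chevG2.Idx F)⁻¹ * x⁻¹) =
          (w : GL chevG2.Idx F) * (x * (w : GL chevG2.Idx F)⁻¹ * x⁻¹) := congrArg Subtype.val e
      simpa [← mul_assoc] using e')
    obtain ⟨v, hv⟩ := Finite.surjective_of_injective hf ⟨h, hh⟩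
    refine ⟨v, v.2, ?_⟩
    rw [show h = (v : GL chevG2.Idx F) * (x * (v : GL chevG2.Idx F)⁻¹ * x⁻¹) from
      (congrArg Subtype.val hv).symm]
    group
  · let f : H → H := fun v => ⟨(x⁻¹ * (v : GL chevG2.Idx F) * x) * (v : GL chevG2.Idx F)⁻¹,
      mul_mem (hn' _ v.2) (inv_mem v.2)⟩
    have hf : Function.Injective f := fun v w e => hinj v w (by
      have e' : (x⁻¹ * (v : GL chevG2.Idx F) * x) * (v : GL chevG2.Idx F)⁻¹ =
          (x⁻¹ * (w : GL chevG2.Idx F) * x) * (w : GL chevG2.Idx F)⁻¹ := congrArg Subtype.val e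
      simpa [mul_assoc] using e')
    obtain ⟨v, hv⟩ := Finite.surjective_of_injective hf ⟨h, hh⟩
    refine ⟨v, v.2, ?_⟩
    rw [show h = (x⁻¹ * (v : GL chevG2.Idx F) * x) * (v : GL chevG2.Idx F)⁻¹ from
      (congrArg Subtype.val hv).symm]
    group

variable (S : SData F)

/-- The semisimple element. -/
noncomputable def SData.x : GL chevG2.Idx F := L S.s

/-- The cell `N · L A · Qp` consists of covered elements. -/
def SData.Cl (N : GL chevG2.Idx F) (A : GL (Fin 2) F) : Prop :=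
  ∀ q ∈ Qp F, Cov S.x (N * L A * q)

theorem SData.cov_good {A : GL (Fin 2) F} (hA : S.Good A) {a b : GL chevG2.Idx F} (ha : a ∈ Qm F)
    (hb : b ∈ Qp F) : Cov S.x (a * L A * b) := by
  obtain ⟨P, Q, rfl⟩ := S.good_prod hA
  obtain ⟨v, hv, hv'⟩ := (conj_fill (H := Qm F) (x := S.x) (fun v hv => conj_Qm _ hv)
    (fun v hv => by
      have := conj_Qm S.s⁻¹ hv
      rwa [map_inv, inv_inv] at this) S.fixM).1 ((L P)⁻¹ * a * L P) (by
      have := conj_Qm P⁻¹ ha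
      rwa [map_inv, inv_inv] at this)
  obtain ⟨w, hw, hw'⟩ := (conj_fill (H := Qp F) (x := S.x) (fun v hv => conj_Qp _ hv)
    (fun v hv => conj_Qp' _ hv) S.fixP).2 ((L Q)⁻¹ * b * L Q) (conj_Qp' _ hb)
  refine ⟨L P * v, mul_mem (L_mem P) (Qm_le_group hv), L Q * w,
    mul_mem (L_mem Q) (Qp_le_group hw), ?_⟩
  rw [show L P * v * S.x * (L P * v)⁻¹ = L P * (v * S.x * v⁻¹) * (L P)⁻¹ by group,
    show L Q * w * S.x * (L Q * w)⁻¹ = L Q * (w * S.x * w⁻¹) * (L Q)⁻¹ by group, ← hv', ← hw',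
    map_mul, map_mul, map_mul, map_mul, map_mul, map_inv, map_inv]
  show a * (L P * S.x * (L P)⁻¹ * (L Q * S.x * (L Q)⁻¹)) * b = _
  group

/-- Conjugation by an element of the Levi subgroup moved into `Qp` by `N`. -/
theorem SData.step_qp {N : GL chevG2.Idx F} {Z A : GL (Fin 2) F}
    (hw : N⁻¹ * L Z * N ∈ Qp F) (h : S.Cl N (A * Z⁻¹)) : S.Cl N A := by
  intro q hq
  refine cov_of (L_mem Z) ?_
  have := h _ (mul_mem (conj_Qp' (A * Z⁻¹) hw) (conj_Qp Z hq))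
  rw [map_mul, map_inv] at this
  have e : L Z * (N * L A * q) * (L Z)⁻¹ = N * (L A * (L Z)⁻¹) *
      ((L A * (L Z)⁻¹)⁻¹ * (N⁻¹ * L Z * N) * (L A * (L Z)⁻¹) * (L Z * q * (L Z)⁻¹)) := by group
  rw [e]
  exact this

/-- Conjugation by an element of the Levi subgroup normalised by `N`. -/
theorem SData.step_L {N : GL chevG2.Idx F} {Z W A : GL (Fin 2) F}
    (hw : N⁻¹ * L Z * N = L W) (h : S.Cl N (W * A * Z⁻¹)) : S.Cl N A := by
  intro q hq
  refine cov_of (L_mem Z) ?_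
  have := h _ (conj_Qp Z hq)
  rw [map_mul, map_mul, map_inv, ← hw] at this
  have e : L Z * (N * L A * q) * (L Z)⁻¹ =
      N * (N⁻¹ * L Z * N * L A * (L Z)⁻¹) * (L Z * q * (L Z)⁻¹) := by group
  rw [e]
  exact this

/-- The final step. -/
theorem SData.cl_of_good {N X Y : GL chevG2.Idx F} (hX : X ∈ Qp F) (hY : Y ∈ Qm F)
    (e : N = X * Y * X) {A : GL (Fin 2) F} (hA : S.Good A) : S.Cl N A := by
  intro q hq
  refine cov_of (inv_mem (Qp_le_group hX)) ?_
  have e2 : X⁻¹ * (N * L A * q) * X⁻¹⁻¹ = Y * L A * ((L A)⁻¹ * X * L A * q * X) := by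
    rw [e]; group
  rw [e2]
  exact S.cov_good hA hY (mul_mem (mul_mem (conj_Qp' A hX) hq) hX)

end CfsgLib.Known.G2Square
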