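import Cfsg.Agent.Lib.Known.G2Square.Levi
import Cfsg.Agent.Lib.Known.G2Singer.Main

/-!
A semisimple element of the Levi subgroup acting without fixed points on both radicals.
-/

set_option autoImplicit false
set_option maxRecDepth 8000

namespace CfsgLib.Known.G2Square

open Cfsg.Lie CfsgLib.Chev
open CfsgLib.Known.G2Singer (facts psi psi_map extGL extGL_xU extGL_injective pos_eq_one
  exists_fixed_preimage pq expo pq_bound pq_ne)

theorem small_check : ∀ k : Fin 2, ∀ r : Fin 12,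
    expo (k.val + 3 : ℤ) r % ((k.val + 3 : ℤ) ^ 2 - 1) ≠ 0 := by decide +kernel

theorem expo_ne {q : ℕ} (hq : 3 ≤ q) {r : ℕ} (hr : r < 12) :
    ¬ ((q : ℤ) ^ 2 - 1) ∣ expo q r := by
  by_cases h5 : 5 ≤ q
  · intro h
    have hq' : (5 : ℤ) ≤ q := by exact_mod_cast h5
    obtain ⟨a1, a2, a3, a4⟩ := pq_bound ⟨r, hr⟩
    simp only at a1 a2 a3 a4
    have h1 : expo q r < (q : ℤ) ^ 2 - 1 := by rw [expo]; nlinarith
    have h2 : -((q : ℤ) ^ 2 - 1) < expo q r := by rw [expo]; nlinarith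
    have h0 : expo q r = 0 := Int.eq_zero_of_abs_lt_dvd h (abs_lt.2 ⟨h2, h1⟩)
    rw [expo] at h0
    have hB : (pq r).2 = 0 := by nlinarith
    rw [hB, mul_zero, add_zero, add_zero] at h0
    exact pq_ne ⟨r, hr⟩ (by simp only; rw [hB, add_zero, h0]) hB
  · intro h
    obtain ⟨k, rfl⟩ : ∃ k, q = k + 3 := ⟨q - 3, by omega⟩
    exact small_check ⟨k, by omega⟩ ⟨r, hr⟩ (Int.emod_eq_zero_of_dvd (by push_cast at h ⊢; exact h))

theorem conj_map_mem {D : ChevalleyDatum} {F K : Type*} [Field F] [Field K]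
    {S : Set (GL D.Idx F)} {H : Subgroup (GL D.Idx K)} (f : GL D.Idx F →* GL D.Idx K)
    (h : ∀ y ∈ S, f y ∈ H) {x : GL D.Idx F} (hx : x ∈ Subgroup.closure S) : f x ∈ H :=
  (Subgroup.closure_le (K := H.comap f)).2 h hx

theorem extGL_rootClosure {F K : Type*} [Field F] [Field K] (ι : F →+* K) {P : ℕ → Prop}
    {x : GL chevG2.Idx F} (hx : x ∈ rootClosure chevG2 F P) :
    extGL ι x ∈ rootClosure chevG2 K P := by
  refine conj_map_mem (extGL ι) ?_ hx
  rintro y ⟨r, t, hr, hP, rfl⟩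
  rw [extGL_xU ι hr]
  exact xU_mem_rootClosure hr hP _

theorem extGL_L {F K : Type*} [Field F] [Field K] [Finite F] [Finite K] (ι : F →+* K)
    (A : GL (Fin 2) F) :
    extGL ι (L A) = L (Matrix.GeneralLinearGroup.map ι A) := by
  show extGL ι (psi (emb A)) = psi (emb _)
  rw [← psi_map]
  congr 1
  refine Subtype.ext (Matrix.ext fun i j => ?_)
  show ι ((emb A : Matrix (Fin 3) (Fin 3) F) i j) = _
  fin_cases i <;> fin_cases j <;> simp [emb_val, Matrix.det_fin_two, map_inv₀]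

/-- No nontrivial negative unipotent element commutes with a regular diagonal element. -/
theorem neg_eq_one {K : Type*} [Field K] {χ : ℕ → Kˣ}
    (hχ : IsWeight chevG2 (fun r => Additive.ofMul (χ r)))
    (hne : ∀ r < chevG2.nroots, χ r ≠ 1) (hD : dU chevG2 χ ∈ chevG2.diagonalSubgroup K)
    {v : GL chevG2.Idx K} (hv : v ∈ chevG2.negUnipotent K)
    (hc : dU chevG2 χ * v * (dU chevG2 χ)⁻¹ = v) : v = 1 := by
  obtain ⟨n, hn, hmap⟩ := facts.exists_opposite (F := K)
  rw [← hmap] at hv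
  obtain ⟨u, hu, huv⟩ := hv
  change n * u * n⁻¹ = v at huv
  subst huv
  rw [facts.posUnipotent_eq] at hu
  obtain ⟨σ, hσ⟩ := facts.exists_permAct hn
  set d := dU chevG2 χ with hd
  have hm : n⁻¹ * d * n ∈ chevG2.diagonalSubgroup K := by
    have h1 : (⟨d, Subgroup.mem_sup_left hD⟩ : chevG2.monomialSubgroup K) ∈
        (facts.weylHom (F := K)).ker := by rw [facts.weylHom_ker]; exact hD
    have h2 := (MonoidHom.normal_ker (facts.weylHom (F := K))).conj_mem _ h1 ⟨n, hn⟩⁻¹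
    rw [facts.weylHom_ker] at h2
    rw [inv_inv] at h2
    exact h2
  obtain ⟨c, hcd⟩ := facts.mem_diagonal_iff.1 hm
  have hχ' := facts.isWeight_hT (F := K) c
  have hne' : ∀ r < chevG2.nroots,
      (∏ i ∈ Finset.range chevG2.rank, c i ^ chevG2.cartan i r : Kˣ) ≠ 1 := by
    intro r hr e
    obtain ⟨k, hk, h1, -⟩ := hσ ⟨r, hr⟩
    have hx : n⁻¹ * d * n * xU chevG2 r 1 * (n⁻¹ * d * n)⁻¹ = xU chevG2 r 1 := by
      rw [hcd, facts.hT_conj_xU c hr, e, Units.val_one, one_mul]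
    have hy : d * (n * xU chevG2 r 1 * n⁻¹) * d⁻¹ = n * xU chevG2 r 1 * n⁻¹ := by
      calc d * (n * xU chevG2 r 1 * n⁻¹) * d⁻¹
          = n * (n⁻¹ * d * n * xU chevG2 r 1 * (n⁻¹ * d * n)⁻¹) * n⁻¹ := by group
        _ = _ := by rw [hx]
    have h1' : n * xU chevG2 r 1 * n⁻¹ = xU chevG2 (σ ⟨r, hr⟩).val (k * 1) := h1 1
    rw [h1', hd, facts.dU_conj hχ (σ _).isLt, mul_inv_cancel_right, mul_one] at hy
    have h0 : xU chevG2 (σ ⟨r, hr⟩).val ((χ (σ ⟨r, hr⟩).val : K) * k - k) = 1 := by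
      rw [sub_eq_add_neg, ← facts.xU_add (σ _).isLt, ← facts.xU_inv (σ _).isLt, hy, mul_inv_cancel]
    have h2 := facts.xU_eq_one (σ _).isLt h0
    rw [sub_eq_zero] at h2
    exact hne _ (σ _).isLt (Units.ext ((mul_eq_right₀ hk).1 h2))
  have : u = 1 := by
    refine pos_eq_one facts DataG2.commF hχ' hne' hu ?_
    show hT chevG2 c * u * (hT chevG2 c)⁻¹ = u
    rw [← hcd]
    calc n⁻¹ * d * n * u * (n⁻¹ * d * n)⁻¹ = n⁻¹ * (d * (n * u * n⁻¹) * d⁻¹) * n := by group
      _ = _ := by rw [hc]; group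
  rw [this, mul_one, mul_inv_cancel]

/-- The data of the semisimple element. -/
structure SData (F : Type*) [Field F] [Finite F] where
  /-- The determinant. -/
  d : F
  /-- The trace. -/
  tau : F
  hd : d ≠ 0
  htau : tau ≠ 0
  hdisc : tau * tau - 4 * d ≠ 0
  hs : (0 : F) * tau - -d * 1 ≠ 0
  order : (gl2 0 (-d) 1 tau hs) ^ (Nat.card F ^ 2 - 1) = 1
  fixP : ∀ v ∈ Qp F, L (gl2 0 (-d) 1 tau hs) * v * (L (gl2 0 (-d) 1 tau hs))⁻¹ = v → v = 1
  fixM : ∀ v ∈ Qm F, L (gl2 0 (-d) 1 tau hs) * v * (L (gl2 0 (-d) 1 tau hs))⁻¹ = v → v = 1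

theorem exists_sdata {F : Type*} [Field F] [Finite F] (h3 : 3 ≤ Nat.card F) :
    Nonempty (SData F) := by
  classical
  haveI := Fintype.ofFinite F
  obtain ⟨p, hp⟩ := CharP.exists F
  obtain ⟨f, hpp, hf⟩ := FiniteField.card F p
  haveI : Fact p.Prime := ⟨hpp⟩
  obtain ⟨q, hq⟩ : ∃ q, q = Nat.card F := ⟨_, rfl⟩
  have hqf : q = p ^ (f : ℕ) := by rw [hq, Nat.card_eq_fintype_card, hf]
  let K := FiniteField.Extension F p 2
  let ι : F →+* K := algebraMap F K
  haveI : CharP K p := charP_of_injective_ringHom ι.injective p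
  let σ : K →+* K := iterateFrobenius K p f
  have hσ : ∀ x, σ x = x ^ q := fun x => by rw [hqf]; exact iterateFrobenius_def p f x
  obtain ⟨a, ha⟩ : ∃ a : Kˣ, orderOf a = q ^ 2 - 1 := by
    haveI := Fintype.ofFinite K
    obtain ⟨g, hg⟩ := IsCyclic.exists_generator (α := Kˣ)
    exact ⟨g, by rw [orderOf_eq_card_of_forall_mem_zpowers hg, Nat.card_units,
      FiniteField.natCard_extension, hq]⟩
  have hq3 : 3 ≤ q := hq ▸ h3
  have hN : 0 < q ^ 2 - 1 := by
    have : 3 * 3 ≤ q * q := Nat.mul_le_mul hq3 hq3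
    rw [pow_two]; omega
  have hzp : ∀ i : ℤ, a ^ i = 1 ↔ ((q : ℤ) ^ 2 - 1) ∣ i := fun i => by
    rw [← orderOf_dvd_iff_zpow_eq_one, ha, Nat.cast_sub (by omega)]
    push_cast
    rfl
  have hqq : a ^ (q * q) = a := by
    have e : q * q = (q ^ 2 - 1) + 1 := by rw [pow_two] at hN ⊢; omega
    rw [e, pow_succ, ← ha, pow_orderOf_eq_one, one_mul]
  -- the trace and determinant
  obtain ⟨tau, htau⟩ := exists_fixed_preimage ι (x := (a : K) + (a : K) ^ q) (by
    rw [← hq, ← hσ, map_add, hσ, hσ, ← pow_mul, ← Units.val_pow_eq_pow_val, ← Units.val_pow_eq_pow_val,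
      hqq, add_comm])
  obtain ⟨d, hd⟩ := exists_fixed_preimage ι (x := (a : K) * (a : K) ^ q) (by
    rw [← hq, ← hσ, map_mul, hσ, hσ, ← pow_mul, ← Units.val_pow_eq_pow_val, ← Units.val_pow_eq_pow_val,
      hqq, mul_comm])
  have hne : (a : K) ≠ (a : K) ^ q := by
    intro e
    have h1 : a ^ ((q : ℤ) - 1) = 1 := by
      rw [zpow_sub, zpow_one, zpow_natCast, mul_inv_eq_one]
      exact Units.ext (by rw [Units.val_pow_eq_pow_val]; exact e.symm)
    have h2 := Int.le_of_dvd (by omega) ((hzp _).1 h1)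
    nlinarith
  have hd0 : d ≠ 0 := fun e => by
    rw [e, map_zero] at hd
    exact mul_ne_zero a.ne_zero (pow_ne_zero _ a.ne_zero) hd.symm
  have htau0 : tau ≠ 0 := fun e => by
    rw [e, map_zero] at htau
    have e1 : (a : K) ^ q = -(a : K) := eq_neg_of_add_eq_zero_right htau.symm
    have h1 : a ^ (2 * ((q : ℤ) - 1)) = 1 := by
      rw [mul_sub, mul_one, zpow_sub, mul_inv_eq_one, show (2 : ℤ) * (q : ℤ) = ((q * 2 : ℕ) : ℤ) by
        push_cast; ring, show (2 : ℤ) = ((2 : ℕ) : ℤ) from rfl, zpow_natCast, zpow_natCast, pow_mul]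
      refine Units.ext ?_
      rw [Units.val_pow_eq_pow_val, Units.val_pow_eq_pow_val, Units.val_pow_eq_pow_val, e1]
      ring
    have h2 := Int.le_of_dvd (by omega) ((hzp _).1 h1)
    nlinarith
  have hdisc : tau * tau - 4 * d ≠ 0 := fun e => by
    have h1 := congrArg ι e
    rw [map_sub, map_mul, map_mul, map_ofNat, htau, hd, map_zero] at h1
    refine hne (sub_eq_zero.1 (mul_self_eq_zero.1 ?_))
    linear_combination h1
  have hs : (0 : F) * tau - -d * 1 ≠ 0 := by simpa using hd0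
  set s := gl2 0 (-d) 1 tau hs with hsdef
  let T : GL (Fin 2) K := gl2 (-(a : K) ^ q) (-(a : K)) 1 1 (by
    rw [show -(a : K) ^ q * 1 - -(a : K) * 1 = (a : K) - (a : K) ^ q by ring]
    exact sub_ne_zero.2 hne)
  let D : GL (Fin 2) K := dd a (a ^ q)
  have hsT : Matrix.GeneralLinearGroup.map ι s = T * D * T⁻¹ := by
    rw [eq_mul_inv_iff_mul_eq]
    refine gl_ext ?_ ?_ ?_ ?_ <;>
      simp [s, T, D, dd, Matrix.mul_apply, Fin.sum_univ_two, htau, hd] <;> ring
  set χ : ℕ → Kˣ := fun r => prChar chevG2 6 a r * prChar chevG2 10 (a * a ^ q) r with hχdef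
  have hLD : L D = dU chevG2 χ := L_dd a (a ^ q)
  have hχ : IsWeight chevG2 (fun r => Additive.ofMul (χ r)) := by
    have h6 := facts.isWeight_prChar (F := K) (r := 6) (by decide) a
    have h10 := facts.isWeight_prChar (F := K) (r := 10) (by decide) (a * a ^ q)
    refine ⟨fun r hr => ?_, fun r hr s hs k h => ?_⟩
    · simp only [hχdef, ofMul_mul]
      rw [h6.neg r hr, h10.neg r hr, neg_add]
    · simp only [hχdef, ofMul_mul]
      rw [h6.add r hr s hs k h, h10.add r hr s hs k h]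
      abel
  have hreg : ∀ r < chevG2.nroots, χ r ≠ 1 := fun r hr e => by
    refine expo_ne hq3 (G2.nroots_eq ▸ hr) ((hzp _).1 ?_)
    rw [← e, hχdef]
    simp only [prChar]
    rw [show a * a ^ q = a ^ (1 + (q : ℤ)) by rw [zpow_add, zpow_one, zpow_natCast], ← zpow_mul,
      ← zpow_add, expo, pq]
    congr 1
    ring
  have hext : extGL ι (L s) = L T * L D * (L T)⁻¹ := by
    rw [extGL_L, hsT, map_mul, map_mul, map_inv]
  have move : ∀ v : GL chevG2.Idx F, L s * v * (L s)⁻¹ = v →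
      L D * ((L T)⁻¹ * extGL ι v * L T) * (L D)⁻¹ = (L T)⁻¹ * extGL ι v * L T := by
    intro v hv
    have h1 := congrArg (extGL ι) hv
    rw [map_mul, map_mul, map_inv, hext] at h1
    calc L D * ((L T)⁻¹ * extGL ι v * L T) * (L D)⁻¹
        = (L T)⁻¹ * (L T * L D * (L T)⁻¹ * extGL ι v * (L T * L D * (L T)⁻¹)⁻¹) * L T := by group
      _ = _ := by rw [h1]
  have back : ∀ v : GL chevG2.Idx F, (L T)⁻¹ * extGL ι v * L T = 1 → v = 1 := by
    intro v h
    refine extGL_injective ι ?_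
    rw [map_one]
    calc extGL ι v = L T * ((L T)⁻¹ * extGL ι v * L T) * (L T)⁻¹ := by group
      _ = 1 := by rw [h]; group
  refine ⟨⟨d, tau, hd0, htau0, hdisc, hs, ?_, fun v hv hfix => back v ?_, fun v hv hfix => back v ?_⟩⟩
  · have hinj : Function.Injective (Matrix.GeneralLinearGroup.map (n := Fin 2) ι) := fun x y h =>
      Units.ext (Matrix.map_injective ι.injective (congrArg Units.val h))
    refine hinj ?_
    rw [map_pow, map_one, ← hsdef, hsT, conj_pow]
    have hDN : D ^ (q ^ 2 - 1) = 1 := by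
      refine Units.ext ?_
      rw [Units.val_pow_eq_pow_val]
      show (!![(a : K), 0; 0, ((a ^ q : Kˣ) : K)]) ^ (q ^ 2 - 1) = 1
      rw [show (!![(a : K), 0; 0, ((a ^ q : Kˣ) : K)]) = Matrix.diagonal ![(a : K), ((a ^ q : Kˣ) : K)]
        by ext i j; fin_cases i <;> fin_cases j <;> simp, Matrix.diagonal_pow, ← Matrix.diagonal_one]
      congr 1
      have haN : a ^ (q ^ 2 - 1) = 1 := ha ▸ pow_orderOf_eq_one a
      funext i
      fin_cases i
      · simp [← Units.val_pow_eq_pow_val, haN]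
      · simp [← Units.val_pow_eq_pow_val, ← pow_mul, pow_mul', haN]
    rw [← hq, hDN, mul_one, mul_inv_cancel]
  · refine pos_eq_one facts DataG2.commF hχ hreg ?_ (hLD ▸ move v hfix)
    exact rootClosure_mono (fun r hr (h : 7 ≤ r) => (show 6 ≤ r by omega))
      (conj_Qp' T (extGL_rootClosure ι hv))
  · refine neg_eq_one hχ hreg (hLD ▸ L_dd_mem_diagonal a (a ^ q)) ?_ (hLD ▸ move v hfix)
    rw [facts.negUnipotent_eq]
    have h1 : (L T)⁻¹ * extGL ι v * L T ∈ Qm K := by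
      have := conj_Qm T⁻¹ (extGL_rootClosure ι hv : extGL ι v ∈ Qm K)
      rwa [map_inv, inv_inv] at this
    exact rootClosure_mono (fun r hr (h : r ≤ 4) => (show r < 6 by omega)) h1

end CfsgLib.Known.G2Square
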