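import Cfsg.Agent.Lib.Known.G2Square.Fpf
import Mathlib.FieldTheory.ChevalleyWarning

/-!
Products of two conjugates of an irreducible element of `GL₂`.
-/

set_option autoImplicit false

namespace CfsgLib.Known.G2Square

variable {F : Type*} [Field F]

/-- The trace. -/
def trc (A : GL (Fin 2) F) : F := A 0 0 + A 1 1

/-- The determinant. -/
def dtm (A : GL (Fin 2) F) : F := A 0 0 * A 1 1 - A 0 1 * A 1 0

theorem dtm_eq (A : GL (Fin 2) F) : dtm A = (A : Matrix (Fin 2) (Fin 2) F).det := by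
  rw [Matrix.det_fin_two, dtm]

theorem dtm_ne (A : GL (Fin 2) F) : dtm A ≠ 0 := dtm_eq A ▸ det_ne A

theorem dtm_mul (A B : GL (Fin 2) F) : dtm (A * B) = dtm A * dtm B := by
  rw [dtm_eq, dtm_eq, dtm_eq, Matrix.GeneralLinearGroup.coe_mul, Matrix.det_mul]

/-- The matrix is not scalar. -/
def NS (A : GL (Fin 2) F) : Prop := A 1 0 ≠ 0 ∨ A 0 1 ≠ 0 ∨ A 0 0 ≠ A 1 1

theorem exists_companion_conj {A : GL (Fin 2) F} (hA : NS A) {C : GL (Fin 2) F}
    (h00 : C 0 0 = 0) (h01 : C 0 1 = -dtm A) (h10 : C 1 0 = 1) (h11 : C 1 1 = trc A) :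
    ∃ P : GL (Fin 2) F, A = P * C * P⁻¹ := by
  have hall : ∀ (p q : F) (h : p * (A 1 0 * p + A 1 1 * q) - (A 0 0 * p + A 0 1 * q) * q ≠ 0),
      A = gl2 p (A 0 0 * p + A 0 1 * q) q (A 1 0 * p + A 1 1 * q) h * C *
        (gl2 p (A 0 0 * p + A 0 1 * q) q (A 1 0 * p + A 1 1 * q) h)⁻¹ := by
    intro p q h
    rw [eq_mul_inv_iff_mul_eq]
    refine gl_ext ?_ ?_ ?_ ?_ <;>
      simp [Matrix.mul_apply, Fin.sum_univ_two, h00, h01, h10, h11, trc, dtm] <;> ring
  by_cases h1 : A 1 0 = 0
  · by_cases h2 : A 0 1 = 0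
    · have h3 : A 0 0 ≠ A 1 1 := by
        rcases hA with h | h | h
        · exact absurd h1 h
        · exact absurd h2 h
        · exact h
      exact ⟨_, hall 1 1 (fun e => h3 (by linear_combination -e + h1 - h2))⟩
    · exact ⟨_, hall 0 1 (fun e => h2 (by linear_combination -e))⟩
  · exact ⟨_, hall 1 0 (fun e => h1 (by linear_combination e))⟩

theorem conj_of_invariants {A B : GL (Fin 2) F} (hA : NS A) (hB : NS B) (ht : trc A = trc B)
    (hd : dtm A = dtm B) : ∃ P : GL (Fin 2) F, A = P * B * P⁻¹ := by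
  let C : GL (Fin 2) F := gl2 0 (-dtm A) 1 (trc A) (by simpa using dtm_ne A)
  obtain ⟨P, hP⟩ := exists_companion_conj hA (C := C) rfl rfl rfl rfl
  obtain ⟨Q, hQ⟩ := exists_companion_conj hB (C := C) rfl (by simp [C, hd]) rfl (by simp [C, ht])
  refine ⟨P * Q⁻¹, ?_⟩
  rw [hP, hQ]; group

/-- A solution of the inhomogeneous quadratic equation. -/
theorem exists_solution [Finite F] {d tau T : F} (htau : tau ≠ 0) (hT : T ≠ 2 * d) :
    ∃ a c : F, a * a + T * a * c + d * d * c * c - tau * a - d * tau * c + d = 0 := by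
  classical
  haveI := Fintype.ofFinite F
  obtain ⟨p, hp⟩ := CharP.exists F
  obtain ⟨f, hpp, hf⟩ := FiniteField.card F p
  open MvPolynomial in
  let P : MvPolynomial (Fin 3) F :=
    X 0 * X 0 + C T * (X 0 * X 1) + C (d * d) * (X 1 * X 1) - C tau * (X 0 * X 2)
      - C (d * tau) * (X 1 * X 2) + C d * (X 2 * X 2)
  have hdeg : P.totalDegree < Fintype.card (Fin 3) := by
    have hXX : ∀ i j : Fin 3, ∀ c : F,
        (MvPolynomial.C c * (MvPolynomial.X i * MvPolynomial.X j) :
          MvPolynomial (Fin 3) F).totalDegree ≤ 2 := fun i j c => by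
      refine (MvPolynomial.totalDegree_mul _ _).trans ?_
      refine (Nat.add_le_add le_rfl (MvPolynomial.totalDegree_mul _ _)).trans ?_
      simp [MvPolynomial.totalDegree_C, MvPolynomial.totalDegree_X]
    refine Nat.lt_succ_of_le ?_
    show P.totalDegree ≤ 2
    refine (MvPolynomial.totalDegree_add _ _).trans (max_le ?_ (hXX _ _ _))
    refine (MvPolynomial.totalDegree_sub _ _).trans (max_le ?_ (hXX _ _ _))
    refine (MvPolynomial.totalDegree_sub _ _).trans (max_le ?_ (hXX _ _ _))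
    refine (MvPolynomial.totalDegree_add _ _).trans (max_le ?_ (hXX _ _ _))
    refine (MvPolynomial.totalDegree_add _ _).trans (max_le ?_ (hXX _ _ _))
    simpa using hXX 0 0 1
  have hdvd : p ∣ Fintype.card { x : Fin 3 → F // MvPolynomial.eval x P = 0 } :=
    char_dvd_card_solutions p hdeg
  have hzero : MvPolynomial.eval (0 : Fin 3 → F) P = 0 := by simp [P]
  obtain ⟨⟨x, hx⟩, hne⟩ : ∃ y : { x : Fin 3 → F // MvPolynomial.eval x P = 0 },
      y ≠ ⟨0, hzero⟩ := by
    by_contra h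
    push Not at h
    have h1 : Fintype.card { x : Fin 3 → F // MvPolynomial.eval x P = 0 } = 1 :=
      Fintype.card_eq_one_iff.2 ⟨_, h⟩
    rw [h1] at hdvd
    exact hpp.one_lt.ne' (Nat.dvd_one.1 hdvd)
  have hev : x 0 * x 0 + T * (x 0 * x 1) + d * d * (x 1 * x 1) - tau * (x 0 * x 2)
      - d * tau * (x 1 * x 2) + d * (x 2 * x 2) = 0 := by simpa [P] using hx
  by_cases hz : x 2 = 0
  · rw [hz] at hev
    have hc : x 1 ≠ 0 := by
      intro hc
      have ha : x 0 = 0 := by
        rw [hc] at hev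
        exact mul_self_eq_zero.1 (by linear_combination hev)
      exact hne (Subtype.ext (funext fun i => by fin_cases i <;> simp [ha, hc, hz]))
    obtain ⟨r, hr⟩ : ∃ r, r * x 1 = x 0 := ⟨x 0 / x 1, div_mul_cancel₀ _ hc⟩
    have hq : r * r + T * r + d * d = 0 := by
      refine (mul_eq_zero.1 (show (r * r + T * r + d * d) * (x 1 * x 1) = 0 from ?_)).resolve_right
        (mul_ne_zero hc hc)
      rw [← hr] at hev
      linear_combination hev
    obtain ⟨e, he⟩ : ∃ e, (2 * r + T) * e - tau * (r + d) ≠ 0 := by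
      by_cases hrd : r + d = 0
      · refine ⟨1, ?_⟩
        rw [hrd, mul_zero, sub_zero, mul_one]
        intro h
        exact hT (by linear_combination h - 2 * hrd)
      · exact ⟨0, by rw [mul_zero, zero_sub]; exact neg_ne_zero.2 (mul_ne_zero htau hrd)⟩
    obtain ⟨c, hc'⟩ : ∃ c, c * ((2 * r + T) * e - tau * (r + d)) = -(e * e - tau * e + d) :=
      ⟨_, div_mul_cancel₀ _ he⟩
    exact ⟨r * c + e, c, by linear_combination hc' + c * c * hq⟩
  · refine ⟨x 0 / x 2, x 1 / x 2, ?_⟩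
    field_simp
    linear_combination hev

variable [Finite F]

/-- The base element. -/
noncomputable def SData.s (S : SData F) : GL (Fin 2) F := gl2 0 (-S.d) 1 S.tau S.hs

/-- The matrices which are products of two conjugates of the base element. -/
def SData.Good (S : SData F) (A : GL (Fin 2) F) : Prop :=
  dtm A = S.d * S.d ∧ ((trc A ≠ 2 * S.d ∧ NS A) ∨
    (A 0 0 = S.d ∧ A 1 1 = S.d ∧ A 0 1 = 0 ∧ A 1 0 = 0))

theorem SData.trc_s (S : SData F) : trc S.s = S.tau := by simp [trc, SData.s]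

theorem SData.dtm_s (S : SData F) : dtm S.s = S.d := by simp [dtm, SData.s]

theorem SData.ns_of (S : SData F) {A : GL (Fin 2) F} (ht : trc A = S.tau) (hd : dtm A = S.d) :
    NS A := by
  by_contra h
  simp only [NS, not_or, not_not] at h
  obtain ⟨h1, h2, h3⟩ := h
  refine S.hdisc ?_
  rw [← ht, ← hd, trc, dtm, h1, h2, h3]
  ring

theorem SData.conj_s (S : SData F) {A : GL (Fin 2) F} (ht : trc A = S.tau) (hd : dtm A = S.d) :
    ∃ P : GL (Fin 2) F, A = P * S.s * P⁻¹ :=
  conj_of_invariants (S.ns_of ht hd) (S.ns_of S.trc_s S.dtm_s) (ht.trans S.trc_s.symm)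
    (hd.trans S.dtm_s.symm)

theorem SData.good_prod (S : SData F) {A : GL (Fin 2) F} (hA : S.Good A) :
    ∃ P Q : GL (Fin 2) F, A = (P * S.s * P⁻¹) * (Q * S.s * Q⁻¹) := by
  obtain ⟨hdet, h | ⟨h00, h11, h01, h10⟩⟩ := hA
  · obtain ⟨hT, hns⟩ := h
    obtain ⟨a, c, hac⟩ := exists_solution (T := trc A) S.htau hT
    set b : F := c * (S.d * S.d) + a * trc A - S.d * S.tau with hb
    have hd1 : a * (S.tau - a) - b * c = S.d := by rw [hb]; linear_combination -hac
    let S1 : GL (Fin 2) F := gl2 a b c (S.tau - a) (hd1 ▸ S.hd)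
    let C : GL (Fin 2) F := gl2 0 (-dtm A) 1 (trc A) (by simpa using dtm_ne A)
    obtain ⟨R, hR⟩ := exists_companion_conj hns (C := C) rfl rfl rfl rfl
    have ht1 : trc S1 = S.tau := by simp [trc, S1]
    have hD1 : dtm S1 = S.d := by simp [dtm, S1]; linear_combination hd1
    let S2 : GL (Fin 2) F := gl2 (-b / S.d) (((S.tau - a) * -dtm A - b * trc A) / S.d) (a / S.d)
      ((c * dtm A + a * trc A) / S.d) (by
        have hd0 := S.hd
        rw [hdet, div_mul_div_comm, div_mul_div_comm, ← sub_div]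
        refine div_ne_zero ?_ (mul_ne_zero hd0 hd0)
        intro e
        exact pow_ne_zero 3 hd0 (by linear_combination e - S.d ^ 2 * hd1))
    have hC : S1 * S2 = C := by
      have hd0 := S.hd
      refine gl_ext ?_ ?_ ?_ ?_ <;>
        simp [S1, S2, C, Matrix.mul_apply, Fin.sum_univ_two] <;> field_simp
      · ring
      · linear_combination -dtm A * hd1
      · linear_combination hd1
      · linear_combination trc A * hd1
    have hD2 : dtm S2 = S.d := by
      have := congrArg dtm hC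
      rw [dtm_mul, hD1, show dtm C = dtm A by simp [dtm, C], hdet] at this
      exact mul_left_cancel₀ S.hd this
    have ht2 : trc S2 = S.tau := by
      have hd0 := S.hd
      simp [trc, S2, hdet]
      field_simp
      rw [hb]
      simp [trc]
      ring
    obtain ⟨P, hP⟩ := S.conj_s ht1 hD1
    obtain ⟨Q, hQ⟩ := S.conj_s ht2 hD2
    refine ⟨R * P, R * Q, ?_⟩
    rw [hR, ← hC, hP, hQ]
    group
  · let S2 : GL (Fin 2) F := gl2 S.tau S.d (-1) 0 (by simpa using S.hd)
    obtain ⟨Q, hQ⟩ := S.conj_s (A := S2) (by simp [trc, S2]) (by simp [dtm, S2])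
    refine ⟨1, Q, ?_⟩
    rw [← hQ, inv_one, one_mul, mul_one]
    refine gl_ext ?_ ?_ ?_ ?_ <;>
      simp [SData.s, S2, Matrix.mul_apply, Fin.sum_univ_two, h00, h11, h01, h10]

end CfsgLib.Known.G2Square
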