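import Cfsg.Agent.Lib.Known.G2Singer.Hom
import Cfsg.Agent.Lib.Known.G2Singer.Regular
import Cfsg.Agent.Lib.Chev.Invol.G2

/-!
The Levi subgroup `GL₂` of the long simple root of `G₂` and the two unipotent radicals.
-/

set_option autoImplicit false
set_option maxRecDepth 8000

namespace CfsgLib.Known.G2Square

open Cfsg.Lie CfsgLib.Chev
open CfsgLib.Known.G2Singer (facts psi psi_transvection psi_mem idx idx_lt idx_swap xF)
open scoped Pointwise

variable {F : Type*} [Field F]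

theorem G2.nroots_eq : chevG2.nroots = 12 := by decide +kernel

/-- A matrix of `GL₂`. -/
noncomputable def gl2 (a b c d : F) (h : a * d - b * c ≠ 0) : GL (Fin 2) F :=
  Matrix.GeneralLinearGroup.mkOfDetNeZero !![a, b; c, d] (by rwa [Matrix.det_fin_two_of])

@[simp] theorem gl2_val (a b c d : F) (h : a * d - b * c ≠ 0) :
    (gl2 a b c d h : Matrix (Fin 2) (Fin 2) F) = !![a, b; c, d] := rfl

theorem det_ne (A : GL (Fin 2) F) : (A : Matrix (Fin 2) (Fin 2) F).det ≠ 0 :=
  (Matrix.GeneralLinearGroup.det A).ne_zero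

theorem gl_ext {A B : GL (Fin 2) F} (h00 : A 0 0 = B 0 0) (h01 : A 0 1 = B 0 1)
    (h10 : A 1 0 = B 1 0) (h11 : A 1 1 = B 1 1) : A = B := by
  refine Units.ext (Matrix.ext fun i j => ?_)
  fin_cases i <;> fin_cases j <;> assumption

/-- The upper unipotent matrix. -/
noncomputable def up (t : F) : GL (Fin 2) F := gl2 1 t 0 1 (by simp)
/-- The lower unipotent matrix. -/
noncomputable def low (t : F) : GL (Fin 2) F := gl2 1 0 t 1 (by simp)
/-- The diagonal matrix. -/
noncomputable def dd (a d : Fˣ) : GL (Fin 2) F := gl2 (a : F) 0 0 (d : F) (by simp)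

theorem up_mul (s t : F) : up s * up t = up (s + t) := by
  refine gl_ext ?_ ?_ ?_ ?_ <;> simp [up, Matrix.mul_apply, Fin.sum_univ_two, add_comm]

theorem low_mul (s t : F) : low s * low t = low (s + t) := by
  refine gl_ext ?_ ?_ ?_ ?_ <;> simp [low, Matrix.mul_apply, Fin.sum_univ_two, add_comm]

theorem up_zero : up (0 : F) = 1 := by
  refine gl_ext ?_ ?_ ?_ ?_ <;> simp [up]

theorem low_zero : low (0 : F) = 1 := by
  refine gl_ext ?_ ?_ ?_ ?_ <;> simp [low]

theorem up_inv (t : F) : (up t)⁻¹ = up (-t) :=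
  inv_eq_of_mul_eq_one_right (by rw [up_mul, add_neg_cancel, up_zero])

theorem low_inv (t : F) : (low t)⁻¹ = low (-t) :=
  inv_eq_of_mul_eq_one_right (by rw [low_mul, add_neg_cancel, low_zero])

/-- `GL₂` is generated by unipotent and diagonal matrices. -/
theorem gl_induction (S : Subgroup (GL (Fin 2) F)) (hu : ∀ t, up t ∈ S) (hl : ∀ t, low t ∈ S)
    (hd : ∀ a d, dd a d ∈ S) (A : GL (Fin 2) F) : A ∈ S := by
  have key : ∀ A : GL (Fin 2) F, A 0 0 ≠ 0 → A ∈ S := fun A ha => by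
    have hdet := det_ne A
    rw [Matrix.det_fin_two] at hdet
    have hb : A 1 1 - A 1 0 * A 0 1 / A 0 0 ≠ 0 := fun e => hdet (by
      field_simp at e
      linear_combination e)
    have e : A = low (A 1 0 / A 0 0) * dd (Units.mk0 _ ha) (Units.mk0 _ hb) * up (A 0 1 / A 0 0) := by
      refine gl_ext ?_ ?_ ?_ ?_ <;>
        simp [low, up, dd, Matrix.mul_apply, Fin.sum_univ_two] <;> field_simp <;> ring
    rw [e]
    exact S.mul_mem (S.mul_mem (hl _) (hd _ _)) (hu _)
  by_cases ha : A 0 0 = 0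
  · have hc : ((up 1 * A : GL (Fin 2) F) : Matrix (Fin 2) (Fin 2) F) 0 0 ≠ 0 := by
      intro e
      refine det_ne A ?_
      simp [up, Matrix.mul_apply, Fin.sum_univ_two, ha] at e
      rw [Matrix.det_fin_two, ha, e]
      ring
    have := S.mul_mem (S.inv_mem (hu 1)) (key _ hc)
    rwa [inv_mul_cancel_left] at this
  · exact key A ha

/-- The embedding `A ↦ diag(A, det A⁻¹)`. -/
noncomputable def emb : GL (Fin 2) F →* Matrix.SpecialLinearGroup (Fin 3) F where
  toFun A := ⟨!![A 0 0, A 0 1, 0; A 1 0, A 1 1, 0; 0, 0, ((A : Matrix (Fin 2) (Fin 2) F).det)⁻¹], by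
    have h := det_ne A
    rw [Matrix.det_fin_two] at h ⊢
    rw [Matrix.det_fin_three]
    simp
    field_simp⟩
  map_one' := by
    refine Subtype.ext (Matrix.ext fun i j => ?_)
    fin_cases i <;> fin_cases j <;> simp
  map_mul' A B := by
    refine Subtype.ext ?_
    show (!![_, _, 0; _, _, 0; 0, 0, _] : Matrix (Fin 3) (Fin 3) F) =
      !![_, _, 0; _, _, 0; 0, 0, _] * !![_, _, 0; _, _, 0; 0, 0, _]
    refine Matrix.ext fun i j => ?_
    fin_cases i <;> fin_cases j <;>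
      simp [Matrix.mul_apply, Fin.sum_univ_two, Fin.sum_univ_three, Matrix.det_mul, mul_comm]

theorem emb_val (A : GL (Fin 2) F) : (emb A : Matrix (Fin 3) (Fin 3) F) =
    !![A 0 0, A 0 1, 0; A 1 0, A 1 1, 0; 0, 0, ((A : Matrix (Fin 2) (Fin 2) F).det)⁻¹] := rfl

theorem emb_up (t : F) :
    emb (up t) = Matrix.SpecialLinearGroup.transvection (show (0 : Fin 3) ≠ 1 by decide) t := by
  refine Subtype.ext (Matrix.ext fun i j => ?_)
  fin_cases i <;> fin_cases j <;>
    simp [emb_val, up, Matrix.SpecialLinearGroup.transvection, Matrix.transvection,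
      Matrix.single_apply, Matrix.det_fin_two]

theorem emb_low (t : F) :
    emb (low t) = Matrix.SpecialLinearGroup.transvection (show (1 : Fin 3) ≠ 0 by decide) t := by
  refine Subtype.ext (Matrix.ext fun i j => ?_)
  fin_cases i <;> fin_cases j <;>
    simp [emb_val, low, Matrix.SpecialLinearGroup.transvection, Matrix.transvection,
      Matrix.single_apply, Matrix.det_fin_two]

/-- The monomial word of a pair of indices. -/
noncomputable def wEl {i j : Fin 3} (h : i ≠ j) (t : F) : Matrix.SpecialLinearGroup (Fin 3) F :=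
  Matrix.SpecialLinearGroup.transvection h t *
    Matrix.SpecialLinearGroup.transvection h.symm (-t⁻¹) *
    Matrix.SpecialLinearGroup.transvection h t

section Finite

variable [Finite F]

/-- The Levi homomorphism. -/
noncomputable def L : GL (Fin 2) F →* GL chevG2.Idx F := psi.comp emb

theorem L_up (t : F) : L (up t) = xU chevG2 6 t := by
  show psi (emb (up t)) = _
  rw [emb_up, psi_transvection]
  rfl

theorem L_low (t : F) : L (low t) = xU chevG2 5 t := by
  show psi (emb (low t)) = _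
  rw [emb_low, psi_transvection]
  rfl

theorem L_mem (A : GL (Fin 2) F) : L A ∈ chevG2.group F := psi_mem _

theorem psi_wEl {i j : Fin 3} (h : i ≠ j) (t : F) : psi (wEl h t) = nU chevG2 (idx i j) t := by
  rw [wEl, map_mul, map_mul, psi_transvection, psi_transvection, nU, idx_swap i j h]
  rfl

theorem L_dd (a d : Fˣ) : L (dd a d) =
    dU chevG2 (fun s => prChar chevG2 6 a s * prChar chevG2 10 (a * d) s) := by
  have h01 : (0 : Fin 3) ≠ 1 := by decide
  have h12 : (1 : Fin 3) ≠ 2 := by decide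
  have key : emb (dd a d) = wEl h01 (a : F) * wEl h01 (-1) *
      (wEl h12 ((a * d : Fˣ) : F) * wEl h12 (-1)) := by
    refine Subtype.ext (Matrix.ext fun i j => ?_)
    simp only [Matrix.SpecialLinearGroup.coe_mul, wEl]
    fin_cases i <;> fin_cases j <;>
      simp [emb_val, dd, Matrix.SpecialLinearGroup.transvection, Matrix.transvection,
        Matrix.mul_apply, Fin.sum_univ_three, Matrix.single_apply, Matrix.det_fin_two] <;> field_simp <;> ring
  show psi (emb (dd a d)) = _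
  rw [key, map_mul, map_mul, map_mul, psi_wEl, psi_wEl, psi_wEl, psi_wEl, ← dU_mul,
    ← facts.hU_eq (r := 6) (idx_lt 0 1), ← facts.hU_eq (r := 10) (idx_lt 1 2)]
  rfl

theorem L_dd_mem_diagonal (a d : Fˣ) : L (dd a d) ∈ chevG2.diagonalSubgroup F := by
  rw [L_dd, ← dU_mul, ← facts.hU_eq (r := 6) (idx_lt 0 1), ← facts.hU_eq (r := 10) (idx_lt 1 2)]
  exact Subgroup.mul_mem _ (facts.hU_mem_diagonal (idx_lt 0 1) a.ne_zero)
    (facts.hU_mem_diagonal (idx_lt 1 2) (a * d).ne_zero)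

theorem pr_table : ∀ r : Fin 12, ∀ p ∈ [((7 : ℕ), (-1 : ℤ), (1 : ℤ)), (8, 2, 1), (9, 1, 2), (10, 0, 1),
    (11, 1, 1)], prE chevG2 p.1 r.val = p.2.1 * prE chevG2 6 r.val + p.2.2 * prE chevG2 10 r.val := by
  decide +kernel

/-- The torus element of a root inside the Levi subgroup. -/
theorem hU_levi {r : ℕ} {x y : ℤ} (h : (r, x, y) ∈ [((7 : ℕ), (-1 : ℤ), (1 : ℤ)), (8, 2, 1),
    (9, 1, 2), (10, 0, 1), (11, 1, 1)]) (u : Fˣ) :
    hU chevG2 r (u : F) = L (dd (u ^ x) (u ^ (y - x))) := by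
  have hr : r < chevG2.nroots := by
    rw [G2.nroots_eq]; simp at h; omega
  rw [facts.hU_eq hr, L_dd]
  refine dU_congr fun s hs => ?_
  have e : prE chevG2 r s = x * prE chevG2 6 s + y * prE chevG2 10 s :=
    pr_table ⟨s, G2.nroots_eq ▸ hs⟩ (r, x, y) h
  rw [prChar, prChar, prChar, ← zpow_add, add_sub_cancel, ← zpow_mul, ← zpow_mul, ← zpow_add, e]

theorem cartan_pr : ∀ r : Fin 12, chevG2.cartan 0 r.val = prE chevG2 10 r.val - prE chevG2 6 r.val ∧
    chevG2.cartan 1 r.val = prE chevG2 6 r.val := by decide +kernel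

theorem diagonal_levi {h : GL chevG2.Idx F} (hh : h ∈ chevG2.diagonalSubgroup F) :
    ∃ a d, L (dd a d) = h := by
  obtain ⟨c, rfl⟩ := facts.mem_diagonal_iff.1 hh
  refine ⟨c 1 / c 0, c 0 ^ (2 : ℕ) / c 1, ?_⟩
  rw [L_dd, hT]
  refine dU_congr fun s hs => ?_
  obtain ⟨e0, e1⟩ := cartan_pr ⟨s, G2.nroots_eq ▸ hs⟩
  simp only at e0 e1
  rw [show chevG2.rank = 2 from rfl, Finset.prod_range_succ, Finset.prod_range_one, e0, e1,
    prChar, prChar, show c 1 / c 0 * (c 0 ^ (2 : ℕ) / c 1) = c 0 from by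
      simp only [div_eq_mul_inv, pow_two]; simp [mul_comm, mul_left_comm],
    div_zpow, zpow_sub]
  simp only [div_eq_mul_inv]
  simp [mul_assoc, mul_comm, mul_left_comm]

/-- The radical of the parabolic subgroup. -/
noncomputable def Qp (F : Type*) [Field F] : Subgroup (GL chevG2.Idx F) :=
  rootClosure chevG2 F (7 ≤ ·)

/-- The opposite radical. -/
noncomputable def Qm (F : Type*) [Field F] : Subgroup (GL chevG2.Idx F) :=
  rootClosure chevG2 F (· ≤ 4)

theorem norm_data : ∀ i : Fin 12, i.val = 5 ∨ i.val = 6 →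
    (∀ j : Fin 12, 7 ≤ j.val → j.val ≠ chevG2.neg i.val ∧
      (i.val ≠ j.val → ∀ c ∈ chevG2.commTerms i.val j.val, 7 ≤ c.1)) ∧
    (∀ j : Fin 12, j.val ≤ 4 → j.val ≠ chevG2.neg i.val ∧
      (i.val ≠ j.val → ∀ c ∈ chevG2.commTerms i.val j.val, c.1 ≤ 4)) := by
  decide +kernel

theorem L_norm (A : GL (Fin 2) F) :
    L A ∈ Subgroup.normalizer (Qp F : Set (GL chevG2.Idx F)) ∧
      L A ∈ Subgroup.normalizer (Qm F : Set (GL chevG2.Idx F)) := by
  have hP : rootClosure chevG2 F (fun i => i = 5 ∨ i = 6) ≤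
      Subgroup.normalizer (Qp F : Set (GL chevG2.Idx F)) :=
    facts.le_normalizer_rootClosure DataG2.commF fun i hi hQ j hj hP =>
      (norm_data ⟨i, G2.nroots_eq ▸ hi⟩ hQ).1 ⟨j, G2.nroots_eq ▸ hj⟩ hP
  have hM : rootClosure chevG2 F (fun i => i = 5 ∨ i = 6) ≤
      Subgroup.normalizer (Qm F : Set (GL chevG2.Idx F)) :=
    facts.le_normalizer_rootClosure DataG2.commF fun i hi hQ j hj hP =>
      (norm_data ⟨i, G2.nroots_eq ▸ hi⟩ hQ).2 ⟨j, G2.nroots_eq ▸ hj⟩ hP
  have h5 : ∀ t : F, xU chevG2 5 t ∈ rootClosure chevG2 F (fun i => i = 5 ∨ i = 6) :=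
    fun t => xU_mem_rootClosure (by decide) (.inl rfl) t
  have h6 : ∀ t : F, xU chevG2 6 t ∈ rootClosure chevG2 F (fun i => i = 5 ∨ i = 6) :=
    fun t => xU_mem_rootClosure (by decide) (.inr rfl) t
  refine gl_induction (Subgroup.comap L (Subgroup.normalizer (Qp F : Set (GL chevG2.Idx F)) ⊓
    Subgroup.normalizer (Qm F : Set (GL chevG2.Idx F)))) ?_ ?_ ?_ A
  · intro t
    rw [Subgroup.mem_comap]
    rw [L_up]
    exact ⟨hP (h6 t), hM (h6 t)⟩
  · intro t
    rw [Subgroup.mem_comap]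
    rw [L_low]
    exact ⟨hP (h5 t), hM (h5 t)⟩
  · intro a d
    exact ⟨facts.diagonal_le_normalizer _ (L_dd_mem_diagonal a d),
      facts.diagonal_le_normalizer _ (L_dd_mem_diagonal a d)⟩

theorem conj_Qp (A : GL (Fin 2) F) {q : GL chevG2.Idx F} (hq : q ∈ Qp F) :
    L A * q * (L A)⁻¹ ∈ Qp F :=
  (Subgroup.mem_normalizer_iff.1 (L_norm A).1 q).1 hq

theorem conj_Qp' (A : GL (Fin 2) F) {q : GL chevG2.Idx F} (hq : q ∈ Qp F) :
    (L A)⁻¹ * q * L A ∈ Qp F := by
  have := conj_Qp A⁻¹ hq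
  rwa [map_inv, inv_inv] at this

theorem conj_Qm (A : GL (Fin 2) F) {q : GL chevG2.Idx F} (hq : q ∈ Qm F) :
    L A * q * (L A)⁻¹ ∈ Qm F :=
  (Subgroup.mem_normalizer_iff.1 (L_norm A).2 q).1 hq

theorem xU_mem_Qp {r : ℕ} (hr : r < chevG2.nroots) (h : 7 ≤ r) (t : F) : xU chevG2 r t ∈ Qp F :=
  xU_mem_rootClosure hr h t

theorem xU_mem_Qm {r : ℕ} (hr : r < chevG2.nroots) (h : r ≤ 4) (t : F) : xU chevG2 r t ∈ Qm F :=
  xU_mem_rootClosure hr h t

theorem Qp_le_group : Qp F ≤ chevG2.group F := by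
  rw [facts.group_eq]; exact rootClosure_mono fun _ _ _ => trivial

theorem Qm_le_group : Qm F ≤ chevG2.group F := by
  rw [facts.group_eq]; exact rootClosure_mono fun _ _ _ => trivial

theorem L_conj_xU6 (t : F) {q : GL chevG2.Idx F} (hq : q ∈ Qp F) :
    xU chevG2 6 t * q * (xU chevG2 6 t)⁻¹ ∈ Qp F := by
  rw [← L_up]; exact conj_Qp _ hq

theorem L_conj_xU5 (t : F) {q : GL chevG2.Idx F} (hq : q ∈ Qp F) :
    xU chevG2 5 t * q * (xU chevG2 5 t)⁻¹ ∈ Qp F := by
  rw [← L_low]; exact conj_Qp _ hq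

/-- The parabolic subgroup `P₁`. -/
noncomputable def P1 (F : Type*) [Field F] [Finite F] : Subgroup (GL chevG2.Idx F) :=
  (L (F := F)).range ⊔ Qp F

theorem mem_P1 {g : GL chevG2.Idx F} : g ∈ P1 F ↔ ∃ A, ∃ q ∈ Qp F, g = L A * q := by
  have hle : (L (F := F)).range ≤ Subgroup.normalizer (Qp F : Set (GL chevG2.Idx F)) := by
    rintro _ ⟨A, rfl⟩; exact (L_norm A).1
  rw [P1, ← SetLike.mem_coe, Subgroup.coe_mul_of_left_le_normalizer_right _ _ hle, Set.mem_mul]
  constructor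
  · rintro ⟨_, ⟨A, rfl⟩, q, hq, rfl⟩; exact ⟨A, q, hq, rfl⟩
  · rintro ⟨A, q, hq, rfl⟩; exact ⟨_, ⟨A, rfl⟩, q, hq, rfl⟩

theorem P1_le_normalizer : P1 F ≤ Subgroup.normalizer (Qp F : Set (GL chevG2.Idx F)) := by
  refine sup_le ?_ Subgroup.le_normalizer
  rintro _ ⟨A, rfl⟩; exact (L_norm A).1

theorem borel_le_P1 : chevG2.borelSubgroup F ≤ P1 F := by
  rw [facts.borel_eq]
  refine sup_le ((Subgroup.closure_le _).2 ?_) fun h hh => ?_
  · rintro g ⟨r, t, hr, hp, rfl⟩
    rcases Nat.lt_or_eq_of_le (show 6 ≤ r from hp) with h | h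
    · exact Subgroup.mem_sup_right (xU_mem_Qp hr h t)
    · subst h
      exact Subgroup.mem_sup_left ⟨up t, L_up t⟩
  · obtain ⟨a, d, hA⟩ := diagonal_levi hh
    exact Subgroup.mem_sup_left ⟨dd a d, hA⟩

theorem L_wGL : L (up (1 : F) * low (-1) * up 1) = nU chevG2 6 (1 : F) := by
  rw [map_mul, map_mul, L_up, L_low, nU, show chevG2.neg 6 = 5 from by decide +kernel]
  simp

end Finite

end CfsgLib.Known.G2Square
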