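import Cfsg.Agent.Lib.Known.G2Square.Cell
import Cfsg.Agent.S1055

/-!
Every nontrivial element of `G₂(q)`, `q ≥ 3`, is a product of two conjugates of one semisimple
element.
-/

set_option autoImplicit false

namespace CfsgLib.Known.G2Square

open Cfsg.Lie CfsgLib.Chev
open CfsgLib.Known.G2Singer (facts)

variable {F : Type*} [Field F] [Finite F]

theorem exists_not_mem_P1 : ∃ z ∈ chevG2.group F, z ∉ P1 F := by
  obtain ⟨m9, p9⟩ := nU_perm (F := F) (w := [Invol.G2.I0, Invol.G2.I1]) (i := Invol.G2.I0) (r := 9)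
    (by decide +kernel) one_ne_zero
  refine ⟨_, facts.monomial_le_group m9, fun h => ?_⟩
  obtain ⟨c, hc, h1, -⟩ := p9 ⟨9, lt_nroots (by omega)⟩
  have hc1 : nU chevG2 9 (1 : F) * xU chevG2 9 1 * (nU chevG2 9 (1 : F))⁻¹ =
      xU chevG2 2 (c * 1) := by
    have := h1 1
    rwa [Invol.G2.sW_val, show Invol.G2.pv ([Invol.G2.I0, Invol.G2.I1] ++ Invol.G2.I0 ::
      [Invol.G2.I0, Invol.G2.I1].reverse) 9 = 2 by decide +kernel] at this
  have hQ := (Subgroup.mem_normalizer_iff.1 (P1_le_normalizer h) _).1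
    (xU_mem_Qp (F := F) (lt_nroots (by omega : 9 < 12)) (by omega) 1)
  rw [hc1] at hQ
  have hmem : xU chevG2 2 (c * 1) ∈ chevG2.borelSubgroup F ⊓ chevG2.negUnipotent F := by
    refine ⟨facts.pos_le_borel (rootClosure_mono (fun r _ (h : 7 ≤ r) => (show 6 ≤ r by omega)) hQ), ?_⟩
    rw [facts.negUnipotent_eq]
    exact xU_mem_rootClosure (F := F) (P := (· < chevG2.nroots / 2)) (lt_nroots (by omega))
      (by show (2 : ℕ) < chevG2.nroots / 2; rw [G2.nroots_eq]; omega) _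
  rw [facts.borel_inf_neg, Subgroup.mem_bot, mul_one] at hmem
  exact hc (facts.xU_eq_one (lt_nroots (by omega)) hmem)

theorem main (p : ℕ) [Fact p.Prime] [CharP F p] (h3 : 3 ≤ Nat.card F) :
    ∃ x : chevG2.group F, ¬ p ∣ orderOf x ∧
      ∀ g : chevG2.group F, g ≠ 1 → ∃ u v : chevG2.group F,
        g = (u * x * u⁻¹) * (v * x * v⁻¹) := by
  classical
  haveI := Fintype.ofFinite F
  obtain ⟨S⟩ := exists_sdata (F := F) h3
  refine ⟨⟨S.x, L_mem _⟩, fun hdvd => ?_, fun g hg => ?_⟩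
  · have h1 : orderOf (⟨S.x, L_mem _⟩ : chevG2.group F) ∣ Nat.card F ^ 2 - 1 := by
      refine orderOf_dvd_of_pow_eq_one (Subtype.ext ?_)
      show (L S.s) ^ (Nat.card F ^ 2 - 1) = 1
      rw [← map_pow, show S.s ^ (Nat.card F ^ 2 - 1) = 1 from S.order, map_one]
    obtain ⟨n, hp, hn⟩ := FiniteField.card F p
    have hq : p ∣ Nat.card F ^ 2 := by
      rw [Nat.card_eq_fintype_card, hn]
      exact dvd_pow (dvd_pow_self p n.ne_zero) two_ne_zero
    have h2 := Nat.dvd_sub hq (hdvd.trans h1)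
    rw [Nat.sub_sub_self (Nat.one_le_pow _ _ (by omega))] at h2
    exact hp.one_lt.ne' (Nat.dvd_one.1 h2)
  · haveI hs : IsSimpleGroup ↥(chevG2.group F) := by
      obtain ⟨a, b⟩ := exists_ne_ne h3 1
      exact (Cfsg.Agent.S1055.result ⟨a, b⟩).1
    let P : Subgroup ↥(chevG2.group F) := (P1 F).subgroupOf (chevG2.group F)
    have hcore : P.normalCore = ⊥ := by
      rcases hs.eq_bot_or_eq_top_of_normal _ P.normalCore_normal with h | h
      · exact h
      · exfalso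
        obtain ⟨z, hz, hzP⟩ := exists_not_mem_P1 (F := F)
        have := P.normalCore_le (h.ge (Subgroup.mem_top ⟨z, hz⟩))
        exact hzP this
    obtain ⟨z, hz⟩ : ∃ z : chevG2.group F, z * g * z⁻¹ ∉ P := by
      by_contra h
      push Not at h
      exact hg (Subgroup.mem_bot.1 (hcore ▸ (h : g ∈ P.normalCore)))
    have hz' : (z : GL chevG2.Idx F) * g * (z : GL chevG2.Idx F)⁻¹ ∉ P1 F := fun h => hz h
    obtain ⟨u, hu, v, hv, e⟩ := cov_of z.2
      (S.cov_not_mem_P1 h3 (mul_mem (mul_mem z.2 g.2) (inv_mem z.2)) hz')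
    exact ⟨⟨u, hu⟩, ⟨v, hv⟩, Subtype.ext e⟩

end CfsgLib.Known.G2Square
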